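import Cfsg.Agent.Lib.Involutions.BaerSuzuki
import Cfsg.Agent.Lib.Components.PComponent
import Cfsg.Agent.S0205
import Cfsg.Prelude.Def_CaseTheorems
import Mathlib.GroupTheory.Transfer
import Mathlib.Algebra.Group.Pointwise.Set.Basic

/-!
Groups in which any two subgroups of equal order are conjugate: consequences for the centralisers of involutions
and for the Sylow 2-subgroups.
-/

set_option autoImplicit false
set_option linter.style.haveILetI false

namespace Cfsg.Agent.EqualOrder

open Subgroup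
open scoped Pointwise

/-- Any two subgroups of equal order are conjugate. -/
def EqConj (G : Type*) [Group G] : Prop :=
  ∀ H K : Subgroup G, Nat.card H = Nat.card K → ∃ g : G, K = H.map (MulAut.conj g).toMonoidHom

variable {G : Type*} [Group G]

theorem eq_one_or_self {t y : G} (ht : orderOf t = 2) (hy : y ∈ zpowers t) : y = 1 ∨ y = t := by
  classical
  have hf : IsOfFinOrder t := orderOf_pos_iff.1 (by omega)
  obtain ⟨k, hk, rfl⟩ := Finset.mem_image.1 (hf.mem_zpowers_iff_mem_range_orderOf.1 hy)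
  rw [Finset.mem_range, ht] at hk
  interval_cases k
  · exact Or.inl (pow_zero t)
  · exact Or.inr (pow_one t)

theorem EqConj.iso (hC : EqConj G) {H K : Subgroup G} (h : Nat.card H = Nat.card K) : Nonempty (H ≃* K) := by
  obtain ⟨g, rfl⟩ := hC H K h
  exact ⟨H.equivMapOfInjective _ (MulAut.conj g).injective⟩

theorem EqConj.mulComm (hC : EqConj G) {H K : Subgroup G} (h : Nat.card H = Nat.card K)
    (hH : ∀ a ∈ H, ∀ b ∈ H, a * b = b * a) : ∀ a ∈ K, ∀ b ∈ K, a * b = b * a := by
  obtain ⟨g, rfl⟩ := hC H K h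
  rintro _ ⟨a, ha, rfl⟩ _ ⟨b, hb, rfl⟩
  rw [← map_mul, ← map_mul, hH a ha b hb]

theorem EqConj.isCyclic (hC : EqConj G) {H K : Subgroup G} (h : Nat.card H = Nat.card K) (hH : IsCyclic H) :
    IsCyclic K := by
  obtain ⟨e⟩ := hC.iso h
  exact e.isCyclic.1 hH

theorem EqConj.one_class (hC : EqConj G) {t u : G} (ht : orderOf t = 2) (hu : orderOf u = 2) :
    ∃ g : G, g * t * g⁻¹ = u := by
  obtain ⟨g, hg⟩ := hC (zpowers t) (zpowers u) (by rw [Nat.card_zpowers, Nat.card_zpowers, ht, hu])
  refine ⟨g, ?_⟩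
  obtain ⟨y, hy, hyu⟩ := Subgroup.mem_map.1 (hg ▸ mem_zpowers u)
  rcases eq_one_or_self ht hy with rfl | rfl
  · simp only [map_one] at hyu
    rw [← hyu, orderOf_one] at hu
    omega
  · simpa using hyu

theorem EqConj.quot (hC : EqConj G) (N : Subgroup G) [N.Normal] : EqConj (G ⧸ N) := by
  intro H K h
  have hsurj := QuotientGroup.mk'_surjective N
  have hcard : ∀ L : Subgroup (G ⧸ N), Nat.card (L.comap (QuotientGroup.mk' N)) = Nat.card N * Nat.card L := by
    intro L
    exact QuotientGroup.card_preimage_mk N (L : Set (G ⧸ N))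
  obtain ⟨g, hg⟩ := hC (H.comap (QuotientGroup.mk' N)) (K.comap (QuotientGroup.mk' N)) (by rw [hcard, hcard, h])
  refine ⟨QuotientGroup.mk' N g, ?_⟩
  have h1 := congrArg (Subgroup.map (QuotientGroup.mk' N)) hg
  rw [map_comap_eq_self_of_surjective hsurj] at h1
  rw [h1, Subgroup.map_map]
  conv_rhs => rw [← map_comap_eq_self_of_surjective hsurj H, Subgroup.map_map]
  congr 1

/-- The product of two subgroups meeting trivially, one normalising the other. -/
theorem card_sup {H K : Subgroup G} (hn : H ≤ normalizer (K : Set G)) (hd : Disjoint H K) :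
    Nat.card ↥(H ⊔ K) = Nat.card H * Nat.card K := by
  rw [← Nat.card_prod]
  refine (Nat.card_congr (Equiv.ofBijective
    (fun p : H × K => (⟨(p.1 : G) * p.2, mul_mem (le_sup_left (b := K) p.1.2) (le_sup_right (a := H) p.2.2)⟩ :
      ↥(H ⊔ K))) ⟨fun p q hpq => mul_injective_of_disjoint hd (congrArg Subtype.val hpq), ?_⟩)).symm
  rintro ⟨z, hz⟩
  have hz' : z ∈ ((H : Set G) * (K : Set G)) := by
    rw [← Subgroup.coe_mul_of_left_le_normalizer_right H K hn]
    exact hz
  obtain ⟨a, ha, b, hb, rfl⟩ := Set.mem_mul.1 hz'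
  exact ⟨(⟨a, ha⟩, ⟨b, hb⟩), rfl⟩

theorem conj_zpowers {s x : G} (h : s * x * s⁻¹ ∈ zpowers x) {y : G} (hy : y ∈ zpowers x) :
    s * y * s⁻¹ ∈ zpowers x := by
  obtain ⟨k, rfl⟩ := mem_zpowers_iff.1 hy
  rw [show s * x ^ k * s⁻¹ = MulAut.conj s (x ^ k) from rfl, map_zpow]
  exact zpow_mem h k

theorem inv_invol {s : G} (hs : orderOf s = 2) : s⁻¹ = s :=
  inv_eq_of_mul_eq_one_right (by rw [← pow_two, ← hs, pow_orderOf_eq_one])

theorem normalizes {s x : G} (hs : orderOf s = 2) (h : s * x * s⁻¹ ∈ zpowers x) :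
    zpowers s ≤ normalizer (zpowers x : Set G) := by
  rw [zpowers_le]
  refine mem_normalizer_iff.2 fun y => ⟨fun hy => conj_zpowers h hy, fun hy => ?_⟩
  have h2 := conj_zpowers h hy
  rwa [show s * (s * y * s⁻¹) * s⁻¹ = (s * s) * y * (s * s)⁻¹ by group,
    show s * s = 1 by rw [← pow_two, ← hs, pow_orderOf_eq_one], one_mul, inv_one, mul_one] at h2

variable [Finite G]

/-- An element of odd prime order is not inverted by an involution and centralised by another. -/
theorem EqConj.no_invert (hC : EqConj G) {t s x : G} {r : ℕ} (hr : r.Prime) (hr2 : r ≠ 2) (hx : orderOf x = r)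
    (ht : orderOf t = 2) (hs : orderOf s = 2) (htx : t * x = x * t) (hsx : s * x * s⁻¹ = x⁻¹) : False := by
  have card2 : ∀ u : G, orderOf u = 2 → u * x * u⁻¹ ∈ zpowers x →
      Nat.card ↥(zpowers u ⊔ zpowers x) = 2 * r := by
    intro u hu hux
    rw [card_sup (normalizes hu hux), Nat.card_zpowers, Nat.card_zpowers, hu, hx]
    rw [disjoint_iff]
    refine Subgroup.inf_eq_bot_of_coprime ?_
    rw [Nat.card_zpowers, Nat.card_zpowers, hu, hx]
    exact (Nat.coprime_primes Nat.prime_two hr).2 (Ne.symm hr2)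
  have h1 := card2 t ht (by rw [htx, mul_inv_cancel_right]; exact mem_zpowers x)
  have h2 := card2 s hs (hsx ▸ inv_mem (mem_zpowers x))
  have hab : ∀ a ∈ zpowers t ⊔ zpowers x, ∀ b ∈ zpowers t ⊔ zpowers x, a * b = b * a := by
    have hle : zpowers t ⊔ zpowers x ≤ Subgroup.closure ({t, x} : Set G) :=
      sup_le (zpowers_le.2 (subset_closure (by simp))) (zpowers_le.2 (subset_closure (by simp)))
    intro a ha b hb
    have hcm : IsMulCommutative (Subgroup.closure ({t, x} : Set G)) := Subgroup.isMulCommutative_closure (by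
      intro p hp q hq
      simp only [Set.mem_insert_iff, Set.mem_singleton_iff] at hp hq
      rcases hp with rfl | rfl <;> rcases hq with rfl | rfl <;>
        first | rfl | exact htx | exact htx.symm)
    exact congrArg Subtype.val (hcm.is_comm.comm ⟨a, hle ha⟩ ⟨b, hle hb⟩)
  have h := hC.mulComm (h1.trans h2.symm) hab s (le_sup_left (b := zpowers x) (mem_zpowers s)) x
    (le_sup_right (a := zpowers s) (mem_zpowers x))
  rw [h, mul_inv_cancel_right] at hsx
  have : r ∣ 2 := hx ▸ orderOf_dvd_of_pow_eq_one (by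
    rw [pow_two]
    nth_rw 2 [hsx]
    exact mul_inv_cancel x)
  exact hr2 ((Nat.prime_dvd_prime_iff_eq hr Nat.prime_two).1 this)

/-- A variant for any element whose order is not a power of two. -/
theorem EqConj.no_invert' (hC : EqConj G) {t s x : G} (ht : orderOf t = 2) (hs : orderOf s = 2)
    (htx : t * x = x * t) (hsx : s * x * s⁻¹ = x⁻¹) : ∃ k : ℕ, orderOf x = 2 ^ k := by
  by_contra hno
  push Not at hno
  obtain ⟨r, hr, hrd, hr2⟩ : ∃ r, r.Prime ∧ r ∣ orderOf x ∧ r ≠ 2 := by
    by_contra hcon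
    push Not at hcon
    exact hno _ (Nat.eq_prime_pow_of_unique_prime_dvd (orderOf_pos x).ne' (fun {d} hd hdd => hcon d hd hdd))
  refine hC.no_invert hr hr2 (orderOf_pow_orderOf_div (orderOf_pos x).ne' hrd) ht hs ?_ ?_
  · exact ((show Commute t x from htx).pow_right _).eq
  · rw [show ∀ n : ℕ, s * x ^ n * s⁻¹ = MulAut.conj s (x ^ n) from fun _ => rfl, map_pow,
      show MulAut.conj s x = x⁻¹ from hsx, inv_pow]

/-- An involution of the centraliser of an involution lies in a normal 2-subgroup of it. -/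
theorem EqConj.mem_normal_two (hC : EqConj G) {t : G} (ht : orderOf t = 2)
    {s : ↥(centralizer ({t} : Set G))} (hs : orderOf s = 2) :
    ∃ N : Subgroup ↥(centralizer ({t} : Set G)), N.Normal ∧ IsPGroup 2 N ∧ s ∈ N := by
  haveI : Fact (Nat.Prime 2) := ⟨Nat.prime_two⟩
  obtain ⟨N, hn, hp, hle⟩ := BaerSuzuki.baerSuzuki (zpowers s)
    (IsPGroup.of_card (n := 1) (by rw [Nat.card_zpowers, hs, pow_one])) (fun g => by
      rw [MonoidHom.map_zpowers]
      set s' := (MulAut.conj g).toMonoidHom s with hs'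
      have hs2 : orderOf s' = 2 := (MulEquiv.orderOf_eq (MulAut.conj g) s).trans hs
      set u := s * s' with hu
      have hinv : s * u * s⁻¹ = u⁻¹ := by
        rw [hu, mul_inv_rev, inv_invol hs, inv_invol hs2,
          show s * (s * s') * s = (s * s) * (s' * s) by group,
          show s * s = 1 by rw [← pow_two, ← hs, pow_orderOf_eq_one], one_mul]
      obtain ⟨k, hk⟩ := hC.no_invert' (t := t) (s := (s : G)) (x := (u : G)) ht
        (by rw [orderOf_coe]; exact hs) (mem_centralizer_singleton_iff.1 u.2).symm (congrArg Subtype.val hinv)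
      rw [orderOf_coe] at hk
      have h2 : IsPGroup 2 ↥(zpowers s ⊔ zpowers u) :=
        (IsPGroup.of_card (n := 1) (by rw [Nat.card_zpowers, hs, pow_one])).to_sup_of_normal_right'
          (IsPGroup.of_card (n := k) (by rw [Nat.card_zpowers, hk]))
          (normalizes hs (hinv ▸ inv_mem (mem_zpowers u)))
      refine h2.to_le (sup_le le_sup_left (zpowers_le.2 ?_))
      rw [show s' = s⁻¹ * u by rw [hu, inv_mul_cancel_left]]
      exact mul_mem (inv_mem (le_sup_left (b := zpowers u) (mem_zpowers s)))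
        (le_sup_right (a := zpowers s) (mem_zpowers u)))
  exact ⟨N, hn, hp, hle (mem_zpowers s)⟩

/-- The 2-elements of a group square to the identity. -/
def SqTwo (G : Type*) [Group G] : Prop := ∀ g : G, (∃ k : ℕ, orderOf g = 2 ^ k) → g * g = 1

theorem comm_of_sq {P : Subgroup G} (h : ∀ a ∈ P, a * a = 1) : ∀ a ∈ P, ∀ b ∈ P, a * b = b * a := fun a ha b hb => by
  have hi : ∀ c ∈ P, c⁻¹ = c := fun c hc => inv_eq_of_mul_eq_one_right (h c hc)
  calc a * b = (a * b)⁻¹ := (hi _ (mul_mem ha hb)).symm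
    _ = b * a := by rw [mul_inv_rev, hi b hb, hi a ha]

/-- With elementary abelian Sylow 2-subgroups, centralisers of involutions are soluble. -/
theorem EqConj.cent_solvable (hC : EqConj G) (hsq : SqTwo G) {t : G} (ht : orderOf t = 2) :
    Group.IsSolvable ↥(centralizer ({t} : Set G)) := by
  haveI : Fact (Nat.Prime 2) := ⟨Nat.prime_two⟩
  set C := centralizer ({t} : Set G)
  obtain ⟨P⟩ : Nonempty (Sylow 2 C) := inferInstance
  have hP : ∀ a ∈ (P : Subgroup C), a * a = 1 := fun a ha => by
    obtain ⟨k, hk⟩ := IsPGroup.iff_orderOf.1 P.2 ⟨a, ha⟩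
    exact Subtype.ext (hsq a ⟨k, by rw [← hk]; exact (Subgroup.orderOf_coe a).trans (Subgroup.orderOf_coe (⟨a, ha⟩ : (P : Subgroup C)))⟩)
  have hall : ∀ Q : Sylow 2 C, (P : Subgroup C) ≤ Q := fun Q a ha => by
    rcases eq_or_ne a 1 with rfl | h1
    · exact one_mem _
    obtain ⟨N, hn, hp, haN⟩ := hC.mem_normal_two ht (s := a)
      (orderOf_eq_prime (by rw [pow_two]; exact hP a ha) h1)
    obtain ⟨R, hR⟩ := hp.exists_le_sylow
    obtain ⟨g, hg⟩ := MulAction.exists_smul_eq C R Q
    rw [← hg, Sylow.coe_subgroup_smul]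
    exact ⟨g⁻¹ * a * g, hR (by simpa using hn.conj_mem a haN g⁻¹), by
      rw [MulDistribMulAction.toMonoidEnd_apply, MulDistribMulAction.toMonoidHom_apply, MulAut.smul_def,
        MulAut.conj_apply]
      group⟩
  haveI hn : (P : Subgroup C).Normal := by
    refine ⟨fun a ha g => ?_⟩
    have h := hall (g⁻¹ • P) ha
    rw [Sylow.coe_subgroup_smul] at h
    obtain ⟨b, hb, hba⟩ := h
    have hb' : b = g * a * g⁻¹ := by
      rw [← hba, MulDistribMulAction.toMonoidEnd_apply, MulDistribMulAction.toMonoidHom_apply, MulAut.smul_def,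
        MulAut.conj_apply]
      group
    exact hb' ▸ hb
  haveI : Group.IsSolvable (P : Subgroup C) :=
    Group.isSolvable_of_comm fun a b => Subtype.ext (comm_of_sq hP a a.2 b b.2)
  haveI : Group.IsSolvable (C ⧸ (P : Subgroup C)) := S0205.result (by
    rw [← Subgroup.index_eq_card, Nat.odd_iff]
    have := P.not_dvd_index
    omega)
  exact solvable_of_ker_le_range (P : Subgroup C).subtype (QuotientGroup.mk' (P : Subgroup C))
    (by rw [QuotientGroup.ker_mk', range_subtype])

end Cfsg.Agent.EqualOrder
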