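import Cfsg.Agent.S0205
import Cfsg.Agent.S3360
import Cfsg.Agent.Lib.RankOne.FieldMaps
import Cfsg.Prelude.Def_Perm
import Mathlib.FieldTheory.Finite.GaloisField

/-!
Semilinear and semiaffine groups of a field of characteristic two, and odd-order groups of automorphisms of an
elementary abelian 2-group which are transitive on the involutions.
-/

set_option autoImplicit false
set_option linter.style.haveILetI false

namespace Cfsg.Agent.EqualOrder

variable {F : Type*} [Field F]

theorem param_unique {a c : Fˣ} {b d : F} {φ ψ : F ≃+* F}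
    (h : ∀ x, (a : F) * φ x + b = (c : F) * ψ x + d) : a = c ∧ b = d ∧ φ = ψ := by
  have h0 : b = d := by simpa using h 0
  subst h0
  have h1 : (a : F) = c := by simpa using h 1
  refine ⟨Units.ext h1, rfl, RingEquiv.ext fun x => ?_⟩
  have h2 := h x
  rw [h1, add_left_inj] at h2
  exact mul_left_cancel₀ c.ne_zero h2

/-- The permutation `x ↦ a φ x + b`. -/
def semiPerm (a : Fˣ) (b : F) (φ : F ≃+* F) : Equiv.Perm F :=
  (φ.toEquiv.trans (Equiv.mulLeft₀ (a : F) a.ne_zero)).trans (Equiv.addRight b)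

@[simp] theorem semiPerm_apply (a : Fˣ) (b : F) (φ : F ≃+* F) (x : F) :
    semiPerm a b φ x = (a : F) * φ x + b := rfl

/-- The maps `x ↦ a σ x`. -/
def semilinearPerms (F : Type*) [Field F] : Subgroup (Equiv.Perm F) :=
  Cfsg.semiaffineGroup F ⊓ MulAction.stabilizer (Equiv.Perm F) (0 : F)

theorem card_semiaffine [Finite F] :
    Nat.card (Cfsg.semiaffineGroup F) = Nat.card Fˣ * Nat.card F * Nat.card (F ≃+* F) := by
  rw [← Nat.card_prod, ← Nat.card_prod]
  refine (Nat.card_congr (Equiv.ofBijective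
    (fun p : (Fˣ × F) × (F ≃+* F) => (⟨semiPerm p.1.1 p.1.2 p.2, p.1.1, p.1.2, p.2, fun _ => rfl⟩ :
      Cfsg.semiaffineGroup F)) ⟨fun p q h => ?_, fun π => ?_⟩)).symm
  · obtain ⟨h1, h2, h3⟩ := param_unique (a := p.1.1) (c := q.1.1) (b := p.1.2) (d := q.1.2) (φ := p.2) (ψ := q.2)
      fun x => Equiv.congr_fun (congrArg Subtype.val h) x
    exact Prod.ext (Prod.ext h1 h2) h3
  · obtain ⟨a, b, φ, h⟩ := π.2
    exact ⟨((a, b), φ), Subtype.ext (Equiv.ext fun x => (h x).symm)⟩

theorem card_semilinear [Finite F] : Nat.card (semilinearPerms F) = Nat.card Fˣ * Nat.card (F ≃+* F) := by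
  rw [← Nat.card_prod]
  refine (Nat.card_congr (Equiv.ofBijective
    (fun p : Fˣ × (F ≃+* F) => (⟨semiPerm p.1 0 p.2, ⟨p.1, 0, p.2, fun _ => rfl⟩,
      show semiPerm p.1 0 p.2 0 = 0 by simp⟩ : semilinearPerms F)) ⟨fun p q h => ?_, fun π => ?_⟩)).symm
  · obtain ⟨h1, -, h3⟩ := param_unique (a := p.1) (c := q.1) (b := (0 : F)) (d := 0) (φ := p.2) (ψ := q.2)
      fun x => Equiv.congr_fun (congrArg Subtype.val h) x
    exact Prod.ext h1 h3
  · obtain ⟨a, b, φ, h⟩ := π.2.1
    have hb : b = 0 := by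
      have h0 : π.1 0 = 0 := π.2.2
      rw [h 0] at h0
      simpa using h0
    subst hb
    exact ⟨(a, φ), Subtype.ext (Equiv.ext fun x => (h x).symm)⟩

theorem card_affine [Finite F] : Nat.card (Cfsg.affineGroup F) = Nat.card Fˣ * Nat.card F := by
  rw [← Nat.card_prod]
  refine (Nat.card_congr (Equiv.ofBijective
    (fun p : Fˣ × F => (⟨semiPerm p.1 p.2 (RingEquiv.refl F), p.1, p.2, fun _ => rfl⟩ :
      Cfsg.affineGroup F)) ⟨fun p q h => ?_, fun π => ?_⟩)).symm
  · obtain ⟨h1, h2, -⟩ := param_unique (a := p.1) (c := q.1) (b := p.2) (d := q.2) (φ := RingEquiv.refl F)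
      (ψ := RingEquiv.refl F) fun x => Equiv.congr_fun (congrArg Subtype.val h) x
    exact Prod.ext h1 h2
  · obtain ⟨a, b, h⟩ := π.2
    exact ⟨(a, b), Subtype.ext (Equiv.ext fun x => (h x).symm)⟩

/-- The field automorphism of a semiaffine map. -/
noncomputable def fieldPart : Cfsg.semiaffineGroup F →* (F ≃+* F) :=
  MonoidHom.mk' (fun π => π.2.choose_spec.choose_spec.choose) fun π ρ => by
    set a := π.2.choose
    set b := π.2.choose_spec.choose
    set φ := π.2.choose_spec.choose_spec.choose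
    have hπ : ∀ x, π.1 x = (a : F) * φ x + b := π.2.choose_spec.choose_spec.choose_spec
    set c := ρ.2.choose
    set d := ρ.2.choose_spec.choose
    set ψ := ρ.2.choose_spec.choose_spec.choose
    have hρ : ∀ x, ρ.1 x = (c : F) * ψ x + d := ρ.2.choose_spec.choose_spec.choose_spec
    have hπρ : ∀ x, (π * ρ).1 x = _ := (π * ρ).2.choose_spec.choose_spec.choose_spec
    refine ((param_unique (a := a * Units.map (φ : F →* F) c) (b := (a : F) * φ d + b) (φ := φ * ψ)
      (c := (π * ρ).2.choose) (d := (π * ρ).2.choose_spec.choose)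
      (ψ := (π * ρ).2.choose_spec.choose_spec.choose) fun x => ?_).2.2).symm
    rw [← hπρ x, Subgroup.coe_mul, Equiv.Perm.mul_apply, hρ, hπ, map_add, map_mul]
    simp only [Units.val_mul, Units.coe_map, MonoidHom.coe_coe]
    show _ * φ (ψ x) + _ = _
    ring

theorem mem_affine_of_fieldPart {π : Cfsg.semiaffineGroup F} (h : fieldPart π = 1) :
    (π : Equiv.Perm F) ∈ Cfsg.affineGroup F := by
  refine ⟨π.2.choose, π.2.choose_spec.choose, fun x => ?_⟩
  rw [π.2.choose_spec.choose_spec.choose_spec x,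
    show π.2.choose_spec.choose_spec.choose = 1 from h]
  rfl

/-- Odd-order groups of automorphisms transitive on the involutions of an elementary abelian group are semilinear. -/
theorem semilinear {P : Type*} [CommGroup P] [Finite P] (h2 : ∀ x : P, x * x = 1) {e : ℕ} (he : e ≠ 0)
    (hcard : Nat.card P = 2 ^ e) (H : Subgroup (MulAut P)) (hH : Odd (Nat.card H))
    (htr : ∀ x y : P, x ≠ 1 → y ≠ 1 → ∃ h ∈ H, h x = y)
    (K : Type) [Field K] [Fintype K] (hK : Fintype.card K = 2 ^ e) :
    ∃ E : P ≃ K, (∀ x y, E (x * y) = E x + E y) ∧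
      ∀ h ∈ H, ∃ (a : Kˣ) (σ : K ≃+* K), ∀ x, E (h x) = (a : K) * σ (E x) := by
  classical
  haveI : Fact (Nat.Prime 2) := ⟨Nat.prime_two⟩
  let V := Additive P
  haveI : Finite V := ‹Finite P›
  letI : Module (ZMod 2) V := AddCommGroup.zmodModule (n := 2) fun v => by
    rw [two_nsmul]; exact h2 v.toMul
  haveI : Nontrivial V := by
    rw [← Finite.one_lt_card_iff_nontrivial]
    show 1 < Nat.card P
    rw [hcard]; exact Nat.one_lt_two_pow he
  let toL : MulAut P → (V ≃ₗ[ZMod 2] V) := fun f =>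
    (MulEquiv.toAdditive f).toLinearEquiv (ZMod.map_smul (MulEquiv.toAdditive f).toAddMonoidHom)
  let ρ : H →* (V ≃ₗ[ZMod 2] V) := MonoidHom.mk' (fun f => toL f) fun f g => LinearEquiv.ext fun v => rfl
  have hρ : Function.Injective ρ := fun f g h => Subtype.ext (MulEquiv.ext fun x =>
    congrArg Additive.toMul (LinearEquiv.congr_fun h (Additive.ofMul x)))
  haveI := S0205.result hH
  rcases S3360.result 2 (V := V) (G := H) inferInstance ρ hρ (fun v w hv hw => by
      obtain ⟨h, hh, hxy⟩ := htr v.toMul w.toMul (fun h => hv (congrArg Additive.ofMul h))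
        (fun h => hw (congrArg Additive.ofMul h))
      exact ⟨⟨h, hh⟩, congrArg Additive.ofMul hxy⟩) with ⟨F, hF, hFt, eF, hsemi⟩ | hex
  · letI := hF; letI := hFt
    have hFK : Fintype.card F = Fintype.card K := by
      rw [hK, ← hcard, ← Nat.card_eq_fintype_card]
      exact (Nat.card_congr eF.toEquiv).symm
    let f : F ≃+* K := FiniteField.ringEquivOfCardEq hFK
    refine ⟨(Additive.ofMul.trans eF.toEquiv).trans f.toEquiv, fun x y => ?_, fun h hh => ?_⟩
    · show f (eF (Additive.ofMul (x * y))) = f (eF (Additive.ofMul x)) + f (eF (Additive.ofMul y))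
      rw [ofMul_mul, map_add, map_add]
    obtain ⟨a, σ, hσ⟩ := hsemi ⟨h, hh⟩
    have ha : a ≠ 0 := by
      intro h0
      obtain ⟨v, hv⟩ := exists_ne (0 : V)
      have h1 := hσ v
      rw [h0, zero_mul, eF.map_eq_zero_iff, LinearEquiv.map_eq_zero_iff] at h1
      exact hv h1
    refine ⟨Units.map (f : F →* K) (Units.mk0 a ha), (f.symm.trans σ).trans f, fun x => ?_⟩
    show f (eF (ρ ⟨h, hh⟩ (Additive.ofMul x))) = f a * f (σ (f.symm (f (eF (Additive.ofMul x)))))
    rw [hσ, map_mul, f.symm_apply_apply]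
  · exfalso
    have hev : Even (Nat.card V) := by
      show Even (Nat.card P)
      rw [hcard]; exact (Nat.even_pow).2 ⟨even_two, he⟩
    simp only [Set.mem_insert_iff, Set.mem_singleton_iff] at hex
    rcases hex with h | h | h | h | h | h <;> rw [h] at hev <;> revert hev <;> decide

end Cfsg.Agent.EqualOrder
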