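import Cfsg.Agent.Lib.EqualOrder.Basic
import Cfsg.Agent.Lib.EqualOrder.Linear

/-!
The automiser of an elementary abelian Sylow 2-subgroup of a group in which subgroups of equal order are conjugate.
-/

set_option autoImplicit false
set_option linter.style.haveILetI false

namespace Cfsg.Agent.EqualOrder

open Subgroup

theorem card_pairs {T : Type*} [Finite T] (o : T) :
    Nat.card {p : T × T // p.1 ≠ o ∧ p.2 ≠ o ∧ p.1 ≠ p.2} = (Nat.card T - 1) * (Nat.card T - 2) := by
  classical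
  haveI := Fintype.ofFinite T
  rw [Nat.card_eq_fintype_card, Nat.card_eq_fintype_card, Fintype.card_subtype]
  have h : (Finset.univ.filter fun p : T × T => p.1 ≠ o ∧ p.2 ≠ o ∧ p.1 ≠ p.2) =
      (Finset.univ.erase o).offDiag := by
    ext p
    simp
  rw [h, Finset.offDiag_card, Finset.card_erase_of_mem (Finset.mem_univ o), Finset.card_univ]
  rcases n_eq : Fintype.card T with _ | _ | n
  · simp
  · simp
  · simp only [Nat.add_sub_cancel, show n + 1 + 1 - 2 = n by omega]
    rw [Nat.sub_eq_iff_eq_add (Nat.le_mul_of_pos_left _ (by omega))]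
    ring

theorem six_lt {e : ℕ} (he : 6 ≤ e) : 6 * e + 2 < 2 ^ e := by
  induction e, he using Nat.le_induction with
  | base => norm_num
  | succ n hn ih => rw [pow_succ]; omega

variable {G : Type*} [Group G] [Finite G]

theorem sylow_sq (hsq : SqTwo G) (S : Sylow 2 G) : ∀ a ∈ (S : Subgroup G), a * a = 1 := fun a ha => by
  haveI : Fact (Nat.Prime 2) := ⟨Nat.prime_two⟩
  obtain ⟨k, hk⟩ := IsPGroup.iff_orderOf.1 S.2 ⟨a, ha⟩
  exact hsq a ⟨k, by rw [← hk, Subgroup.orderOf_mk]⟩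

theorem card_zpowers_two {a : G} (h : a * a = 1) (h1 : a ≠ 1) : Nat.card (zpowers a) = 2 := by
  rw [Nat.card_zpowers, orderOf_eq_prime (by rw [pow_two]; exact h) h1]

theorem card_four {a b : G} (ha : a * a = 1) (hb : b * b = 1) (ha1 : a ≠ 1) (hb1 : b ≠ 1) (hab : a ≠ b)
    (hcm : a * b = b * a) : Nat.card ↥(zpowers a ⊔ zpowers b) = 4 := by
  have hoa : orderOf a = 2 := orderOf_eq_prime (by rw [pow_two]; exact ha) ha1
  rw [card_sup, card_zpowers_two ha ha1, card_zpowers_two hb hb1]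
  · exact normalizes hoa (by rw [hcm, mul_inv_cancel_right]; exact mem_zpowers b)
  · rw [disjoint_iff, eq_bot_iff]
    rintro y ⟨hy1, hy2⟩
    rcases eq_one_or_self hoa hy1 with h | h
    · exact h
    · rcases eq_one_or_self (orderOf_eq_prime (by rw [pow_two]; exact hb) hb1) hy2 with h' | h'
      · exact h'
      · exact absurd (h.symm.trans h') hab

/-- Fusion inside an abelian Sylow subgroup is controlled by its normaliser. -/
theorem fusion_of_conj (S : Sylow 2 G)
    (hcm : ∀ a ∈ (S : Subgroup G), ∀ b ∈ (S : Subgroup G), a * b = b * a) {A B : Subgroup G}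
    (hA : A ≤ S) (hB : B ≤ S) {g : G} (hg : B = A.map (MulAut.conj g).toMonoidHom) :
    ∃ n ∈ normalizer ((S : Subgroup G) : Set G), B = A.map (MulAut.conj n).toMonoidHom := by
  haveI : Fact (Nat.Prime 2) := ⟨Nat.prime_two⟩
  set C := centralizer (B : Set G)
  have h1 : (S : Subgroup G) ≤ C := fun s hs => mem_centralizer_iff.2 fun b hb => hcm b (hB hb) s hs
  have h2 : ((g • S : Sylow 2 G) : Subgroup G) ≤ C := by
    intro s hs
    rw [Sylow.coe_subgroup_smul] at hs
    obtain ⟨s0, hs0, rfl⟩ := hs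
    refine mem_centralizer_iff.2 fun b hb => ?_
    rw [SetLike.mem_coe, hg] at hb
    obtain ⟨a, ha, rfl⟩ := hb
    simp only [MulDistribMulAction.toMonoidEnd_apply, MulDistribMulAction.toMonoidHom_apply, MulAut.smul_def,
      MulEquiv.coe_toMonoidHom, MulAut.conj_apply]
    rw [show g * a * g⁻¹ * (g * s0 * g⁻¹) = g * (a * s0) * g⁻¹ by group, hcm a (hA ha) s0 hs0]
    group
  obtain ⟨c, hc⟩ := MulAction.exists_smul_eq C ((g • S).subtype h2) (S.subtype h1)
  have hc' : ((c : G) • (g • S) : Sylow 2 G) = S := by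
    exact Sylow.subtype_injective ((Sylow.smul_subtype h2 c).symm.trans hc)
  rw [← mul_smul, Sylow.smul_eq_iff_mem_normalizer] at hc'
  refine ⟨(c : G) * g, hc', ?_⟩
  ext y
  constructor
  · intro hy
    have hy' : (c : G) * y * (c : G)⁻¹ = y := by
      rw [← mem_centralizer_iff.1 c.2 y hy, mul_inv_cancel_right]
    rw [hg] at hy
    obtain ⟨a, ha, rfl⟩ := hy
    refine ⟨a, ha, ?_⟩
    simp only [MulEquiv.coe_toMonoidHom, MulAut.conj_apply] at hy' ⊢
    conv_rhs => rw [← hy']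
    group
  · rintro ⟨a, ha, rfl⟩
    have hb : g * a * g⁻¹ ∈ B := by rw [hg]; exact ⟨a, ha, rfl⟩
    simp only [MulEquiv.coe_toMonoidHom, MulAut.conj_apply]
    rw [show (c : G) * g * a * ((c : G) * g)⁻¹ = (c : G) * (g * a * g⁻¹) * (c : G)⁻¹ by group,
      ← mem_centralizer_iff.1 c.2 _ hb, mul_inv_cancel_right]
    exact hb

/-- The automorphisms of `S` induced by its normaliser. -/
def automiser (S : Sylow 2 G) : Subgroup (MulAut (S : Subgroup G)) :=
  (normalizerMonoidHom (S : Subgroup G)).range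

theorem odd_automiser (S : Sylow 2 G) (hcm : ∀ a ∈ (S : Subgroup G), ∀ b ∈ (S : Subgroup G), a * b = b * a) :
    Odd (Nat.card (automiser S)) := by
  haveI : Fact (Nat.Prime 2) := ⟨Nat.prime_two⟩
  have hle : (S : Subgroup G).subgroupOf (normalizer ((S : Subgroup G) : Set G)) ≤
      (normalizerMonoidHom (S : Subgroup G)).ker := fun n hn => by
    refine MonoidHom.mem_ker.2 (MulEquiv.ext fun s => Subtype.ext ?_)
    show (n : G) * s * (n : G)⁻¹ = s
    rw [show (n : G) * s = s * n from hcm _ (Subgroup.mem_subgroupOf.1 hn) _ s.2, mul_inv_cancel_right]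
  have h := (Subgroup.index_dvd_of_le hle).trans
    (Subgroup.relIndex_dvd_index_of_le (le_normalizer (H := (S : Subgroup G))))
  rw [Subgroup.index_ker] at h
  rw [Nat.odd_iff]
  have := S.not_dvd_index
  by_contra hev
  exact this ((show 2 ∣ Nat.card (automiser S) by omega).trans h)

theorem dvd_card_automiser_of (hsq : SqTwo G) (S : Sylow 2 G)
    (hfus : ∀ A B : Subgroup G, A ≤ S → B ≤ S → Nat.card A = Nat.card B →
      ∃ g : G, B = A.map (MulAut.conj g).toMonoidHom) {e : ℕ} (he : 2 ≤ e)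
    (hcard : Nat.card (S : Subgroup G) = 2 ^ e) (K : Type) [Field K] [Fintype K] (hK : Fintype.card K = 2 ^ e) :
    (∃ E : (S : Subgroup G) ≃ K, (∀ x y, E (x * y) = E x + E y) ∧
      ∀ h ∈ automiser S, ∃ (a : Kˣ) (σ : K ≃+* K), ∀ x, E (h x) = (a : K) * σ (E x)) ∧
    ((e = 2 ∧ Nat.card (automiser S) = 3) ∨
      (e = 3 ∧ (Nat.card (automiser S) = 7 ∨ Nat.card (automiser S) = 21)) ∨
      (e = 5 ∧ Nat.card (automiser S) = 155)) := by
  classical
  have hs := sylow_sq hsq S
  have hcm := comm_of_sq hs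
  letI : CommGroup (S : Subgroup G) :=
    { (inferInstance : Group (S : Subgroup G)) with mul_comm := fun a b => Subtype.ext (hcm a a.2 b b.2) }
  set H := automiser S with hH
  have htr : ∀ x y : (S : Subgroup G), x ≠ 1 → y ≠ 1 → ∃ h ∈ H, h x = y := fun x y hx hy => by
    have hx' : (x : G) ≠ 1 := fun h => hx (Subtype.ext h)
    have hy' : (y : G) ≠ 1 := fun h => hy (Subtype.ext h)
    obtain ⟨g, hg⟩ := hfus (zpowers (x : G)) (zpowers (y : G)) (zpowers_le.2 x.2) (zpowers_le.2 y.2)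
      (by rw [card_zpowers_two (hs x x.2) hx', card_zpowers_two (hs y y.2) hy'])
    obtain ⟨n, hn, hxy⟩ := fusion_of_conj S hcm (zpowers_le.2 x.2) (zpowers_le.2 y.2) hg
    refine ⟨normalizerMonoidHom (S : Subgroup G) ⟨n, hn⟩, ⟨_, rfl⟩, Subtype.ext ?_⟩
    rw [MonoidHom.map_zpowers] at hxy
    have hm : (MulAut.conj n).toMonoidHom (x : G) ∈ zpowers (y : G) := hxy ▸ mem_zpowers _
    rcases eq_one_or_self (orderOf_eq_prime (by rw [pow_two]; exact hs y y.2) hy') hm with h | h
    · exact absurd ((MulAut.conj n).injective (h.trans (map_one _).symm)) hx'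
    · exact h
  have hodd := odd_automiser S hcm
  obtain ⟨E, hadd, hsemi⟩ := semilinear (fun x : (S : Subgroup G) => Subtype.ext (hs x x.2)) (by omega) hcard H hodd
    htr K hK
  refine ⟨⟨E, hadd, hsemi⟩, ?_⟩
  -- the group embeds in the semilinear maps
  have hE0 : E 1 = 0 := by simpa using hadd 1 1
  let ι : H →* semilinearPerms K := MonoidHom.mk' (fun h => ⟨E.permCongr (h.1.toEquiv), by
      obtain ⟨a, σ, hσ⟩ := hsemi h.1 h.2
      refine ⟨⟨a, 0, σ, fun x => ?_⟩, ?_⟩
      · show E (h.1 (E.symm x)) = _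
        rw [hσ, E.apply_symm_apply, add_zero]
      · show E (h.1 (E.symm 0)) = 0
        rw [← hE0, E.symm_apply_apply, map_one]⟩) fun f g => Subtype.ext (Equiv.ext fun x => by
      show E ((f.1 * g.1) (E.symm x)) = E (f.1 (E.symm (E (g.1 (E.symm x)))))
      rw [E.symm_apply_apply]; rfl)
  have hι : Function.Injective ι := fun f g h => Subtype.ext (MulEquiv.ext fun x => E.injective (by
    have := Equiv.congr_fun (congrArg Subtype.val h) (E x)
    simpa [ι] using this))
  haveI : CharP K 2 := by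
    obtain ⟨p, hp⟩ := CharP.exists K
    obtain ⟨m, hpp, hm⟩ := FiniteField.card K p
    have h2 : p ∣ 2 := hpp.dvd_of_dvd_pow (hK ▸ hm ▸ dvd_pow_self p m.ne_zero)
    rwa [(Nat.prime_dvd_prime_iff_eq hpp Nat.prime_two).1 h2] at hp
  have hAut : Nat.card (K ≃+* K) = e :=
    Nat.pow_right_injective le_rfl ((RankOne.FieldMaps.card_aut (F := K)).symm.trans hK)
  have hdvd := Subgroup.card_dvd_of_injective ι hι
  rw [card_semilinear, Nat.card_units, Nat.card_eq_fintype_card (α := K), hK, hAut] at hdvd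
  -- transitivity on four-groups
  obtain ⟨a₀, ha₀⟩ : ∃ a : (S : Subgroup G), a ≠ 1 := by
    haveI : Nontrivial (S : Subgroup G) := by
      rw [← Finite.one_lt_card_iff_nontrivial, hcard]; exact Nat.one_lt_two_pow (by omega)
    exact exists_ne 1
  have h4 : 4 ≤ 2 ^ e := by
    calc 4 = 2 ^ 2 := rfl
      _ ≤ _ := Nat.pow_le_pow_right two_pos he
  let P2 := {p : ↥(S : Subgroup G) × ↥(S : Subgroup G) // p.1 ≠ 1 ∧ p.2 ≠ 1 ∧ p.1 ≠ p.2}
  have hP2 : Nat.card P2 = (2 ^ e - 1) * (2 ^ e - 2) := by rw [card_pairs, hcard]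
  obtain ⟨p₀⟩ : Nonempty P2 := by
    refine (Nat.card_pos_iff.1 ?_).1
    rw [hP2]
    exact Nat.mul_pos (by omega) (by omega)
  let four : P2 → Subgroup G := fun p => zpowers (p.1.1 : G) ⊔ zpowers (p.1.2 : G)
  have hfour : ∀ p : P2, Nat.card (four p) = 4 := fun p => card_four (hs _ p.1.1.2) (hs _ p.1.2.2)
    (fun h => p.2.1 (Subtype.ext h)) (fun h => p.2.2.1 (Subtype.ext h)) (fun h => p.2.2.2 (Subtype.ext h))
    (hcm _ p.1.1.2 _ p.1.2.2)
  have hfourle : ∀ p : P2, four p ≤ (S : Subgroup G) := fun p =>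
    sup_le (zpowers_le.2 p.1.1.2) (zpowers_le.2 p.1.2.2)
  let W := {p : four p₀ × four p₀ // p.1 ≠ 1 ∧ p.2 ≠ 1 ∧ p.1 ≠ p.2}
  have hW : Nat.card W = 6 := by rw [card_pairs, hfour]
  let Φ : H × W → P2 := fun hw => ⟨(hw.1.1 ⟨hw.2.1.1.1, hfourle p₀ hw.2.1.1.2⟩,
      hw.1.1 ⟨hw.2.1.2.1, hfourle p₀ hw.2.1.2.2⟩),
    (MulEquiv.map_ne_one_iff _).2 fun h => hw.2.2.1 (Subtype.ext (congrArg Subtype.val h :)),
    (MulEquiv.map_ne_one_iff _).2 fun h => hw.2.2.2.1 (Subtype.ext (congrArg Subtype.val h :)),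
    fun h => hw.2.2.2.2 (Subtype.ext (congrArg Subtype.val (hw.1.1.injective h) :))⟩
  have hΦ : Function.Surjective Φ := fun p => by
    obtain ⟨g, hg⟩ := hfus _ _ (hfourle p₀) (hfourle p) (by rw [hfour, hfour])
    obtain ⟨n, hn, hpn⟩ := fusion_of_conj S hcm (hfourle p₀) (hfourle p) hg
    obtain ⟨a, ha, hae⟩ := (hpn ▸ (le_sup_left (b := zpowers (p.1.2 : G)) (mem_zpowers (p.1.1 : G))) :
      (p.1.1 : G) ∈ (four p₀).map (MulAut.conj n).toMonoidHom)
    obtain ⟨b, hb, hbe⟩ := (hpn ▸ (le_sup_right (a := zpowers (p.1.1 : G)) (mem_zpowers (p.1.2 : G))) :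
      (p.1.2 : G) ∈ (four p₀).map (MulAut.conj n).toMonoidHom)
    refine ⟨(⟨normalizerMonoidHom (S : Subgroup G) ⟨n, hn⟩, ⟨_, rfl⟩⟩, ⟨(⟨a, ha⟩, ⟨b, hb⟩), ?_, ?_, ?_⟩),
      Subtype.ext (Prod.ext (Subtype.ext hae) (Subtype.ext hbe))⟩
    · intro h
      obtain rfl : a = 1 := congrArg Subtype.val h
      exact p.2.1 (Subtype.ext (hae.symm.trans (map_one _)))
    · intro h
      obtain rfl : b = 1 := congrArg Subtype.val h
      exact p.2.2.1 (Subtype.ext (hbe.symm.trans (map_one _)))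
    · intro h
      obtain rfl : a = b := congrArg Subtype.val h
      exact p.2.2.2 (Subtype.ext (hae.symm.trans hbe))
  have hbig := Nat.card_le_card_of_surjective Φ hΦ
  rw [hP2, Nat.card_prod, hW] at hbig
  have hpts : 2 ^ e - 1 ≤ Nat.card H := by
    have h1 : Nat.card {x : ↥(S : Subgroup G) // x ≠ 1} = 2 ^ e - 1 := by
      classical
      haveI := Fintype.ofFinite ↥(S : Subgroup G)
      rw [Nat.card_eq_fintype_card, Fintype.card_subtype_compl, Fintype.card_subtype_eq, ← Nat.card_eq_fintype_card,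
        hcard]
    rw [← h1]
    refine Nat.card_le_card_of_surjective
      (fun h : H => (⟨h.1 a₀, (MulEquiv.map_ne_one_iff _).2 ha₀⟩ : {x : ↥(S : Subgroup G) // x ≠ 1})) fun x => ?_
    obtain ⟨h, hh, hx⟩ := htr a₀ x ha₀ x.2
    exact ⟨⟨h, hh⟩, Subtype.ext hx⟩
  have he5 : e ≤ 5 := by
    by_contra hlt
    have h6 := six_lt (e := e) (by omega)
    have h7 := Nat.le_of_dvd (Nat.mul_pos (by omega) (by omega)) hdvd
    have : (2 ^ e - 1) * (2 ^ e - 2) ≤ (2 ^ e - 1) * (e * 6) :=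
      hbig.trans ((Nat.mul_le_mul_right 6 h7).trans (by rw [mul_assoc]))
    have := Nat.le_of_mul_le_mul_left this (by omega)
    omega
  obtain ⟨r, hr⟩ := hodd
  rw [← hH] at hr
  have hcases : ∀ n, Nat.card H ∣ n → n ∈ ({6, 21, 60, 155} : Finset ℕ) → Nat.card H ∈ n.divisors := fun n h hn =>
    Nat.mem_divisors.2 ⟨h, by rintro rfl; simp at hn⟩
  interval_cases e
  · have h := hcases 6 (by simpa using hdvd) (by simp)
    rw [show Nat.divisors 6 = {1, 2, 3, 6} from by decide] at h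
    simp only [Finset.mem_insert, Finset.mem_singleton] at h
    norm_num at hbig hpts; omega
  · have h := hcases 21 (by simpa using hdvd) (by simp)
    rw [show Nat.divisors 21 = {1, 3, 7, 21} from by decide] at h
    simp only [Finset.mem_insert, Finset.mem_singleton] at h
    norm_num at hbig hpts; omega
  · have h := hcases 60 (by simpa using hdvd) (by simp)
    rw [show Nat.divisors 60 = {1, 2, 3, 4, 5, 6, 10, 12, 15, 20, 30, 60} from by decide] at h
    simp only [Finset.mem_insert, Finset.mem_singleton] at h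
    norm_num at hbig hpts; omega
  · have h := hcases 155 (by simpa using hdvd) (by simp)
    rw [show Nat.divisors 155 = {1, 5, 31, 155} from by decide] at h
    simp only [Finset.mem_insert, Finset.mem_singleton] at h
    norm_num at hbig hpts; omega

theorem EqConj.fusion (hC : EqConj G) (S : Sylow 2 G)
    (hcm : ∀ a ∈ (S : Subgroup G), ∀ b ∈ (S : Subgroup G), a * b = b * a) {A B : Subgroup G}
    (hA : A ≤ S) (hB : B ≤ S) (h : Nat.card A = Nat.card B) :
    ∃ n ∈ normalizer ((S : Subgroup G) : Set G), B = A.map (MulAut.conj n).toMonoidHom := by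
  obtain ⟨g, hg⟩ := hC A B h
  exact fusion_of_conj S hcm hA hB hg

theorem dvd_card_automiser (hC : EqConj G) (hsq : SqTwo G) (S : Sylow 2 G) {e : ℕ} (he : 2 ≤ e)
    (hcard : Nat.card (S : Subgroup G) = 2 ^ e) (K : Type) [Field K] [Fintype K] (hK : Fintype.card K = 2 ^ e) :
    (∃ E : (S : Subgroup G) ≃ K, (∀ x y, E (x * y) = E x + E y) ∧
      ∀ h ∈ automiser S, ∃ (a : Kˣ) (σ : K ≃+* K), ∀ x, E (h x) = (a : K) * σ (E x)) ∧
    ((e = 2 ∧ Nat.card (automiser S) = 3) ∨
      (e = 3 ∧ (Nat.card (automiser S) = 7 ∨ Nat.card (automiser S) = 21)) ∨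
      (e = 5 ∧ Nat.card (automiser S) = 155)) :=
  dvd_card_automiser_of hsq S (fun A B _ _ h => hC A B h) he hcard K hK

end Cfsg.Agent.EqualOrder
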