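import Cfsg.Agent.Lib.EqualOrder.Local
import Cfsg.Agent.Lib.JanThom.PSL2Data
import Cfsg.Agent.Lib.AbelInv.Main
import Cfsg.Agent.Lib.AutPSL.Main
import Cfsg.Agent.Lib.EPPO.PSL
import Cfsg.Agent.Lib.Classical.DicksonSolvable
import Cfsg.Agent.S0494
import Cfsg.Agent.S0813

/-!
The almost simple groups with socle `PSL₂(q)` in which subgroups of equal order are conjugate, the Sylow
2-subgroups being elementary abelian: `A₅`, `PSL₂(8)`, `Aut(PSL₂(32))`.
-/

set_option autoImplicit false
set_option linter.style.haveILetI false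

namespace Cfsg.Agent.EqualOrder

open Subgroup Cfsg.Agent.AutPSL

/-- The conclusions with a simple socle, with the 2-rank. -/
def LinearList (G : Type*) [Group G] (e : ℕ) : Prop :=
  (e = 3 ∧ Nonempty (G ≃* Matrix.ProjectiveSpecialLinearGroup (Fin 2) (GaloisField 2 3))) ∨
    (e = 5 ∧ Nonempty (G ≃* MulAut (Matrix.ProjectiveSpecialLinearGroup (Fin 2) (GaloisField 2 5)))) ∨
    (e = 2 ∧ Nonempty (G ≃* alternatingGroup (Fin 5)))

variable {G : Type*} [Group G] [Finite G]

/-- In `PSL₂(q)`, q ≥ 11, some involution inverts an element of odd order centralised by another involution. -/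
theorem invert_large {F : Type} [Field F] [Fintype F] (h8 : Fintype.card F % 8 = 3 ∨ Fintype.card F % 8 = 5)
    (h11 : 11 ≤ Fintype.card F) : ∃ t a z : Matrix.ProjectiveSpecialLinearGroup (Fin 2) F,
      orderOf t = 2 ∧ orderOf a = 2 ∧ t * z = z * t ∧ a * z * a⁻¹ = z⁻¹ ∧ ¬ ∃ k, orderOf z = 2 ^ k := by
  obtain ⟨D⟩ := JanThom.exists_lData h8 h11
  haveI : Finite (Matrix.ProjectiveSpecialLinearGroup (Fin 2) F) := inferInstance
  have hs : orderOf D.s = 2 := orderOf_eq_prime (by rw [pow_two]; exact D.s_sq) D.s_ne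
  have h3 := D.h_three'
  have hodd : Odd D.h := by
    have h1 := D.h_eq
    have h2 := D.Q_mod
    rw [Nat.odd_iff]
    omega
  have hzs : ∀ z ∈ D.Zh, D.s * z = z * D.s := fun z hz => (mem_centralizer_singleton_iff.1 (D.Zh_le hz)).symm
  have hns : D.Zh ≤ normalizer (zpowers D.s : Set _) := by
    intro z hz
    refine mem_normalizer_iff.2 fun y => ?_
    have hc : ∀ u ∈ zpowers D.s, z * u * z⁻¹ = u := fun u hu => by
      obtain ⟨k, rfl⟩ := mem_zpowers_iff.1 hu
      rw [((show Commute D.s z from hzs z hz).symm.zpow_right k).eq, mul_inv_cancel_right]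
    constructor
    · intro hy; rwa [hc y hy]
    · intro hy
      have := hc _ hy
      rw [mul_left_inj, mul_right_inj] at this
      rwa [this] at hy
  have hd : Disjoint D.Zh (zpowers D.s) := by
    rw [disjoint_iff]
    refine Subgroup.inf_eq_bot_of_coprime ?_
    rw [D.card_Zh, Nat.card_zpowers, hs]
    exact Nat.coprime_two_right.2 hodd
  have hcard : Nat.card ↥(D.Zh ⊔ zpowers D.s) = D.h * 2 := by
    rw [card_sup hns hd, D.card_Zh, Nat.card_zpowers, hs]
  have hnle : ¬ centralizer ({D.s} : Set (Matrix.ProjectiveSpecialLinearGroup (Fin 2) F)) ≤ D.Zh ⊔ zpowers D.s := by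
    intro hle
    have := Subgroup.card_le_of_le hle
    rw [D.card_Cs, hcard] at this
    omega
  obtain ⟨a, ha, han⟩ := SetLike.not_le_iff_exists.1 hnle
  obtain ⟨ha2, ha1, hinv⟩ := (D.Cs_cases a ha).resolve_left han
  obtain ⟨z, hz1⟩ : ∃ z : D.Zh, z ≠ 1 := by
    haveI : Nontrivial D.Zh := by rw [← Finite.one_lt_card_iff_nontrivial, D.card_Zh]; omega
    exact exists_ne 1
  refine ⟨D.s, a, z, hs, orderOf_eq_prime (by rw [pow_two]; exact ha2) ha1, hzs z z.2, hinv z z.2, ?_⟩
  rintro ⟨k, hk⟩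
  rw [orderOf_coe] at hk
  rcases k with _ | k
  · exact hz1 (orderOf_eq_one_iff.1 hk)
  · have : 2 ∣ D.h := D.card_Zh ▸ ((dvd_pow_self 2 k.succ_ne_zero).trans (hk ▸ orderOf_dvd_natCard z))
    rw [Nat.odd_iff] at hodd
    omega

theorem psl_case (hC : EqConj G) (hsq : SqTwo G) (S : Sylow 2 G) {e : ℕ} (he : 2 ≤ e)
    (hcard : Nat.card (S : Subgroup G) = 2 ^ e) (N : Subgroup G) [hN : N.Normal]
    (hcN : centralizer (N : Set G) = ⊥) {F : Type} [Field F] [Fintype F] (hF : AbelInv.GoodField F)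
    (eN : N ≃* Matrix.ProjectiveSpecialLinearGroup (Fin 2) F) : LinearList G e := by
  classical
  haveI : Fact (Nat.Prime 2) := ⟨Nat.prime_two⟩
  have h4q : 4 ≤ Fintype.card F := by
    rcases hF with ⟨-, h⟩ | ⟨n, hn, h⟩
    · omega
    · rw [h]; exact (show 4 = 2 ^ 2 from rfl) ▸ Nat.pow_le_pow_right two_pos hn
  have hq : Nat.card F = Fintype.card F := Nat.card_eq_fintype_card
  haveI : IsSimpleGroup (Matrix.ProjectiveSpecialLinearGroup (Fin 2) F) :=
    Matrix.ProjectiveSpecialLinearGroup.rank_two_simple (by rw [hq]; exact h4q)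
  have hns : ¬ Group.IsSolvable N := fun h => by
    haveI := h
    exact Dickson.not_isSolvable_psl (F := F) (by rw [hq]; exact h4q)
      (Group.isSolvable_of_surjective (f := eN.toMonoidHom) eN.surjective)
  -- the socle contains the Sylow subgroup
  obtain ⟨⟨i, hi⟩, hi2⟩ : ∃ i : N, orderOf i = 2 := exists_prime_orderOf_dvd_card' 2 (by
    rw [← even_iff_two_dvd, ← Nat.not_odd_iff_even]
    exact fun h => hns (S0205.result h))
  rw [orderOf_mk] at hi2
  have hallN : ∀ t : G, orderOf t = 2 → t ∈ N := fun t ht => by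
    obtain ⟨g, rfl⟩ := hC.one_class hi2 ht
    exact hN.conj_mem i hi g
  have hSN : (S : Subgroup G) ≤ N := fun s hs => by
    rcases eq_or_ne s 1 with rfl | h1
    · exact one_mem _
    · exact hallN s (orderOf_eq_prime (by rw [pow_two]; exact sylow_sq hsq S s hs) h1)
  have hidx : Odd N.index := by
    rw [Nat.odd_iff]
    have h1 := S.not_dvd_index
    have h2 := Subgroup.index_dvd_of_le hSN
    by_contra h
    exact h1 ((show 2 ∣ N.index by omega).trans h2)
  have hGN := Subgroup.card_mul_index N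
  have hNP := Nat.card_congr eN.toEquiv
  -- the faithful action on the socle
  let φ : G →* MulAut (Matrix.ProjectiveSpecialLinearGroup (Fin 2) F) :=
    (MulAut.congr eN).toMonoidHom.comp MulAut.conjNormal
  have hφv : ∀ (g : G) (x : N), φ g (eN x) = eN (MulAut.conjNormal g x) := fun g x => by
    simp [φ, MulAut.congr]
  have hinj : Function.Injective φ := by
    refine (injective_iff_map_eq_one φ).2 fun g hg => ?_
    rw [← Subgroup.mem_bot, ← hcN, Subgroup.mem_centralizer_iff]
    intro k hk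
    have := hφv g ⟨k, hk⟩
    rw [hg, MulAut.one_apply, EmbeddingLike.apply_eq_iff_eq] at this
    have h' := congrArg Subtype.val this
    rw [MulAut.conjNormal_apply] at h'
    exact eq_mul_inv_iff_mul_eq.1 h'
  obtain ⟨p, hp⟩ := CharP.exists F
  obtain ⟨f, hpp, hqf⟩ := FiniteField.card F p
  haveI := Fact.mk hpp
  have hAut := S0813.result p f f.pos hqf 2 le_rfl (fun _ => hqf ▸ h4q)
  rw [if_pos rfl, one_mul, Dickson.card_pgl2] at hAut
  haveI : Finite (MulAut (Matrix.ProjectiveSpecialLinearGroup (Fin 2) F)) := inferInstance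
  have hdvd := Subgroup.card_dvd_of_injective φ hinj
  rw [hAut, ← hGN, hNP] at hdvd
  have hpsl := Dickson.gcd_mul_card_psl (K := F)
  have hsixty : Fintype.card F = 4 ∨ Fintype.card F = 5 →
      (f : ℕ) * (Nat.card F * (Nat.card F ^ 2 - 1)) = 120 ∧ Nat.card N = 60 → LinearList G e := by
    rintro - ⟨h120, h60⟩
    rw [h120, ← hNP, h60] at hdvd
    have hi : N.index ∣ 2 := Nat.dvd_of_mul_dvd_mul_left (by norm_num : 0 < 60) hdvd
    have h1 : N.index = 1 := by
      rcases (Nat.dvd_prime Nat.prime_two).1 hi with h | h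
      · exact h
      · rw [h] at hidx; exact absurd hidx (by decide)
    rw [Subgroup.index_eq_one] at h1
    subst h1
    obtain ⟨e5⟩ := S0494.result (G := Matrix.ProjectiveSpecialLinearGroup (Fin 2) F) (hNP ▸ h60)
    have he2 : e = 2 := by
      have h1 : 2 ^ e ∣ 60 := h60 ▸ hcard ▸ Subgroup.card_dvd_of_le hSN
      by_contra hne
      have h8 : 2 ^ 3 ∣ 60 := (pow_dvd_pow 2 (by omega : 3 ≤ e)).trans h1
      norm_num at h8
    exact Or.inr (Or.inr ⟨he2, ⟨(Subgroup.topEquiv.symm.trans eN).trans e5⟩⟩)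
  rcases hF with ⟨h8, h5⟩ | ⟨n, hn, hqn⟩
  · rcases lt_or_ge (Fintype.card F) 11 with hlt | h11
    · have hq5 : Fintype.card F = 5 := by omega
      refine hsixty (Or.inr hq5) ⟨?_, ?_⟩
      · rw [hq5] at hqf
        obtain rfl : p = 5 :=
          (Nat.prime_dvd_prime_iff_eq hpp (by norm_num)).1 (hqf ▸ dvd_pow_self p f.ne_zero)
        rw [hq, hq5, Nat.pow_right_injective (by norm_num : 2 ≤ 5) (hqf.symm.trans (pow_one 5).symm)] <;> norm_num
      · rw [hq, hq5, show Nat.gcd 2 (5 - 1) = 2 from rfl] at hpsl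
        norm_num at hpsl
        rw [hNP]; rw [Nat.card_eq_fintype_card]; omega
    · exfalso
      obtain ⟨t, a, z, ht, ha, htz, haz, hz⟩ := invert_large h8 h11
      set j : Matrix.ProjectiveSpecialLinearGroup (Fin 2) F →* G := N.subtype.comp eN.symm.toMonoidHom
      have hj : Function.Injective j := N.subtype_injective.comp eN.symm.injective
      obtain ⟨k, hk⟩ := hC.no_invert' (t := j t) (s := j a) (x := j z)
        (by rw [orderOf_injective j hj, ht]) (by rw [orderOf_injective j hj, ha])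
        (by rw [← map_mul, htz, map_mul]) (by rw [← map_inv, ← map_mul, ← map_mul, haz, map_inv])
      exact hz ⟨k, by rw [← hk, orderOf_injective j hj]⟩
  -- even characteristic
  obtain rfl : p = 2 := (Nat.prime_dvd_prime_iff_eq hpp Nat.prime_two).1
    (hpp.dvd_of_dvd_pow (hqn ▸ hqf ▸ dvd_pow_self p f.ne_zero))
  obtain rfl : n = f := Nat.pow_right_injective le_rfl (hqn.symm.trans hqf)
  have hgcd : Nat.gcd 2 (Nat.card F - 1) = 1 := by
    rw [hq, hqn, ← Nat.coprime_iff_gcd_eq_one, Nat.coprime_two_left]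
    have : 2 ∣ 2 ^ (f : ℕ) := dvd_pow_self 2 f.ne_zero
    have : 0 < 2 ^ (f : ℕ) := Nat.two_pow_pos _
    rw [Nat.odd_iff]; omega
  rw [hgcd, one_mul] at hpsl
  have hef : e = f := by
    have h1 : 2 ^ e ∣ Nat.card N := hcard ▸ Subgroup.card_dvd_of_le hSN
    rw [hNP, hpsl, hq, hqn] at h1
    have hco : Nat.Coprime (2 ^ e) ((2 ^ (f : ℕ)) ^ 2 - 1) := by
      refine Nat.Coprime.pow_left e (Nat.coprime_two_left.2 ?_)
      rw [← pow_mul, Nat.odd_iff]
      have : 2 ∣ 2 ^ ((f : ℕ) * 2) := dvd_pow_self 2 (by have := f.pos; omega)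
      have : 0 < 2 ^ ((f : ℕ) * 2) := Nat.two_pow_pos _
      omega
    have h2 := (Nat.pow_dvd_pow_iff_le_right (by norm_num)).1 (hco.dvd_of_dvd_mul_right h1)
    have h3 : 2 ^ (f : ℕ) ∣ Nat.card G := by
      refine dvd_trans ?_ (Subgroup.card_subgroup_dvd_card N)
      rw [hNP, hpsl, hq, hqn]
      exact dvd_mul_right _ _
    rw [← Subgroup.card_mul_index (S : Subgroup G), hcard] at h3
    have hco2 : Nat.Coprime (2 ^ (f : ℕ)) (S : Subgroup G).index :=
      Nat.Coprime.pow_left _ ((Nat.Prime.coprime_iff_not_dvd Nat.prime_two).2 S.not_dvd_index)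
    have h4 := (Nat.pow_dvd_pow_iff_le_right (by norm_num)).1 (hco2.dvd_of_dvd_mul_right h3)
    omega
  have hNc : Nat.card N = Nat.card F * (Nat.card F ^ 2 - 1) := hNP.trans hpsl
  rw [← hNP, hNc, mul_comm (Nat.card F * (Nat.card F ^ 2 - 1)) N.index] at hdvd
  have hidxf : N.index ∣ (f : ℕ) := Nat.dvd_of_mul_dvd_mul_right (hNc ▸ Nat.card_pos) hdvd
  let K := GaloisField 2 e
  haveI : Fintype K := Fintype.ofFinite K
  have hK : Fintype.card K = 2 ^ e := by
    rw [← Nat.card_eq_fintype_card, GaloisField.card 2 e (by omega)]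
  obtain ⟨-, hcases⟩ := dvd_card_automiser hC hsq S he hcard K hK
  have eK : F ≃+* K := FiniteField.ringEquivOfCardEq (by rw [hK, hqn, hef])
  rcases hcases with ⟨h, -⟩ | ⟨h, -⟩ | ⟨h, h155⟩
  · subst h
    refine hsixty (Or.inl (hqn.trans ?_)) ⟨?_, ?_⟩
    · rw [← hef]; norm_num
    · rw [hq, hqn, ← hef]; norm_num
    · rw [hNc, hq, hqn, ← hef]; norm_num
  · subst h
    rw [← hef] at hidxf
    rcases (Nat.dvd_prime Nat.prime_three).1 hidxf with h1 | h3
    · rw [Subgroup.index_eq_one] at h1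
      subst h1
      exact Or.inl ⟨rfl, ⟨(Subgroup.topEquiv.symm.trans eN).trans (EPPO.pslRingEquiv eK)⟩⟩
    · exfalso
      have hbij : Function.Bijective φ := hinj.bijective_of_nat_card_le (by
        rw [hAut, ← hGN, h3, hNc, ← hef, mul_comm])
      haveI : CharP F 2 := hp
      haveI : Fintype (F ≃+* F) := Fintype.ofFinite _
      have hcA : Nat.card (F ≃+* F) = 3 :=
        Nat.pow_right_injective le_rfl ((RankOne.FieldMaps.card_aut (F := F)).symm.trans (hqn.trans (by rw [← hef])))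
      haveI : Fact (Nat.Prime 3) := ⟨Nat.prime_three⟩
      obtain ⟨σ, hσ⟩ := exists_prime_orderOf_dvd_card' 3 (dvd_of_eq hcA.symm)
      have hmul : ∀ a b : F ≃+* F, (semi (1 : GL (Fin 2) F) a : MulAut _) * semi 1 b = semi 1 (a * b) := fun a b => by
        rw [semi_mul', map_one, mul_one]
      have hb3 : (semi (1 : GL (Fin 2) F) σ : MulAut (Matrix.ProjectiveSpecialLinearGroup (Fin 2) F)) ^ 3 = 1 := by
        rw [pow_succ, pow_two, hmul, hmul, show σ * σ * σ = σ ^ orderOf σ by rw [hσ, pow_succ, pow_two], pow_orderOf_eq_one, semi_one]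
      have hσ1 : σ ≠ 1 := fun h => by rw [h, orderOf_one] at hσ; omega
      obtain ⟨g, hg⟩ := hbij.2 (semi (1 : GL (Fin 2) F) σ)
      have hg3 : orderOf g = 3 := by
        refine orderOf_eq_prime (hinj (by rw [map_pow, hg, hb3, map_one])) fun h1 => hσ1 ?_
        rw [h1, map_one] at hg
        exact ((semi_eq_one_iff le_rfl).1 hg.symm).1
      obtain ⟨⟨c, hc⟩, hc3⟩ := exists_prime_orderOf_dvd_card' (G := N) 3 (by
        rw [hNc, hq, hqn, ← hef]; norm_num)
      rw [orderOf_mk] at hc3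
      obtain ⟨w, hw⟩ := hC (zpowers c) (zpowers g) (by rw [Nat.card_zpowers, Nat.card_zpowers, hc3, hg3])
      have hgN : g ∈ N := by
        obtain ⟨y, hy, hyg⟩ := Subgroup.mem_map.1 (hw ▸ mem_zpowers g)
        rw [← hyg]
        exact hN.conj_mem y (zpowers_le.2 hc hy) w
      obtain ⟨s, hs⟩ := QuotientGroup.mk_surjective (eN ⟨g, hgN⟩)
      have hcj : semi (1 : GL (Fin 2) F) σ = MulAut.conj (eN ⟨g, hgN⟩) := by
        rw [← hg]
        refine MulEquiv.ext fun y => ?_
        obtain ⟨y, rfl⟩ := eN.surjective y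
        rw [hφv, MulAut.conj_apply, ← map_inv, ← map_mul, ← map_mul]
        exact congrArg eN (Subtype.ext (MulAut.conjNormal_apply _ _))
      obtain ⟨d, hd⟩ : ∃ d : GL (Fin 2) F, MulAut.conj (eN ⟨g, hgN⟩) = semi d 1 := by
        rw [← hs]
        refine ⟨Matrix.SpecialLinearGroup.toGL s, MulEquiv.ext fun y => ?_⟩
        induction y using QuotientGroup.induction_on with
        | _ y =>
          rw [MulAut.conj_apply, semi_mk, ← QuotientGroup.mk_inv, ← QuotientGroup.mk_mul, ← QuotientGroup.mk_mul]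
          refine congrArg QuotientGroup.mk (Subtype.ext ?_)
          simp [slSemi_coe, Matrix.inv_def]
      have h2 : (semi d 1 : MulAut (Matrix.ProjectiveSpecialLinearGroup (Fin 2) F)) * semi d⁻¹ 1 = 1 := by
        rw [semi_mul', mapGL_one, mul_inv_cancel, mul_one, semi_one]
      rw [← hd, ← hcj, semi_mul', mul_one] at h2
      exact hσ1 ((semi_eq_one_iff le_rfl).1 h2).1
  · subst h
    rw [← hef] at hidxf
    rcases (Nat.dvd_prime (by norm_num : Nat.Prime 5)).1 hidxf with h1 | h5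
    · exfalso
      have h5G : 5 ∣ Nat.card G := by
        refine dvd_trans ?_ (Subgroup.card_subgroup_dvd_card (normalizer ((S : Subgroup G) : Set G)))
        exact (show 5 ∣ Nat.card (automiser S) from h155 ▸ (by norm_num)).trans (Subgroup.card_range_dvd _)
      rw [← hGN, h1, hNc, hq, hqn, ← hef] at h5G
      norm_num at h5G
    · have hbij : Function.Bijective φ := hinj.bijective_of_nat_card_le (by
        rw [hAut, ← hGN, h5, hNc, ← hef, mul_comm])
      exact Or.inr (Or.inl ⟨rfl, ⟨(MulEquiv.ofBijective φ hbij).trans (MulAut.congr (EPPO.pslRingEquiv eK))⟩⟩)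

end Cfsg.Agent.EqualOrder
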