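import Cfsg.Agent.Lib.EqualOrder.Solvable
import Cfsg.Agent.Lib.EqualOrder.Psl
import Cfsg.Agent.Lib.Solvable.FixedPointFree
import Cfsg.Agent.Lib.TwoGroups.NormalFour
import Cfsg.Agent.Lib.GW.QGroup
import Cfsg.Agent.Lib.AbelianTwo.Cover
import Cfsg.Agent.S0201
import Mathlib.GroupTheory.Transfer
import Mathlib.GroupTheory.SpecificGroups.Quaternion
import Mathlib.GroupTheory.SpecificGroups.Alternating.Simple

/-!
Groups with trivial odd core in which subgroups of equal order are conjugate.
-/

set_option autoImplicit false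
set_option linter.style.haveILetI false

namespace Cfsg.Agent.EqualOrder

open Subgroup

/-- The list. -/
def FullList (G : Type*) [Group G] : Prop :=
  (IsCyclic G ∧ IsPGroup 2 G) ∨
    Nonempty (G ≃* Cfsg.affineGroup (GaloisField 2 3)) ∨
    Nonempty (G ≃* Cfsg.semiaffineGroup (GaloisField 2 3)) ∨
    Nonempty (G ≃* Cfsg.semiaffineGroup (GaloisField 2 5)) ∨
    Nonempty (G ≃* Matrix.ProjectiveSpecialLinearGroup (Fin 2) (GaloisField 2 3)) ∨
    Nonempty (G ≃* MulAut (Matrix.ProjectiveSpecialLinearGroup (Fin 2) (GaloisField 2 5))) ∨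
    Nonempty (G ≃* alternatingGroup (Fin 4)) ∨
    Nonempty (G ≃* alternatingGroup (Fin 5)) ∨
    Nonempty (G ≃* Matrix.SpecialLinearGroup (Fin 2) (ZMod 3)) ∨
    Nonempty (G ≃* Matrix.SpecialLinearGroup (Fin 2) (ZMod 5))

variable {G : Type*} [Group G] [Finite G]

/-- Elementary abelian Sylow 2-subgroups of rank at least two. -/
theorem elementary (hC : EqConj G) (hO : Cfsg.oddCore G = ⊥) (hsq : SqTwo G) (S : Sylow 2 G) {e : ℕ} (he : 2 ≤ e)
    (hcard : Nat.card (S : Subgroup G) = 2 ^ e) : SolvableList G e ∨ LinearList G e := by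
  haveI : Fact (Nat.Prime 2) := ⟨Nat.prime_two⟩
  have hcm := comm_of_sq (sylow_sq hsq S)
  rcases AbelInv.solvable_or_psl2 S ⟨⟨fun a b => Subtype.ext (hcm a a.2 b b.2)⟩⟩
      (fun t ht => hC.cent_solvable hsq ht) with hsol | ⟨F, i1, i2, hF, N, hN, ⟨eN⟩, hcN⟩
  · exact Or.inl (solvable_case hC hO hsq hsol S he hcard)
  · refine Or.inr ?_
    letI := i1; letI := i2
    haveI := hN
    set π := QuotientGroup.mk' (Cfsg.oddCore G)
    have hπ : Function.Bijective π := ⟨(MonoidHom.ker_eq_bot_iff π).1 (by rw [QuotientGroup.ker_mk', hO]),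
      QuotientGroup.mk'_surjective _⟩
    let eπ := MulEquiv.ofBijective π hπ
    refine psl_case hC hsq S he hcard (N.comap π) ?_ hF
      ((((N.comap π).equivMapOfInjective π hπ.1).trans
        (MulEquiv.subgroupCongr (map_comap_eq_self_of_surjective hπ.2 N))).trans eN)
    rw [eq_bot_iff]
    intro g hg
    have h1 : π g ∈ centralizer (N : Set (G ⧸ Cfsg.oddCore G)) := mem_centralizer_iff.2 fun y hy => by
      obtain ⟨x, rfl⟩ := hπ.2 y
      rw [← map_mul, ← map_mul, mem_centralizer_iff.1 hg x hy]
    rw [hcN, mem_bot] at h1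
    exact hπ.1 (h1.trans (map_one π).symm)

/-- With no four-subgroup in `S`, `S` is cyclic or quaternion. -/
theorem sylow_shape (hC : EqConj G) (S : Sylow 2 G) :
    SqTwo G ∨ IsCyclic (S : Subgroup G) ∨ Nonempty ((S : Subgroup G) ≃* QuaternionGroup 2) := by
  classical
  haveI : Fact (Nat.Prime 2) := ⟨Nat.prime_two⟩
  by_cases hV : ∃ V : Subgroup G, Nat.card V = 4 ∧ ¬ IsCyclic V
  · refine Or.inl fun g hg => ?_
    obtain ⟨V, hV4, hVn⟩ := hV
    obtain ⟨k, hk⟩ := hg
    rcases k with _ | _ | k
    · rw [orderOf_eq_one_iff.1 hk, one_mul]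
    · have h2 : orderOf g = 2 := by simpa using hk
      rw [← pow_two, ← h2, pow_orderOf_eq_one]
    · exfalso
      have hd : (4 : ℕ) ∣ orderOf g := hk ▸ ⟨2 ^ k, by rw [pow_succ, pow_succ]; ring⟩
      refine hVn (hC.isCyclic (H := zpowers (g ^ (orderOf g / 4))) ?_ inferInstance)
      rw [Nat.card_zpowers, orderOf_pow_orderOf_div (orderOf_pos g).ne' hd, hV4]
  · push Not at hV
    refine Or.inr ?_
    have hab : AbCyc.AbCyclic (S : Subgroup G) := by
      intro A hA
      letI : CommGroup A := open scoped IsMulCommutative in inferInstance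
      refine NormalFour.isCyclic_of_sqrt_le_two (S.2.to_subgroup A) ?_
      by_contra hlt
      push Not at hlt
      haveI := Fintype.ofFinite (powMonoidHom 2 : A →* A).ker
      rw [Nat.card_eq_fintype_card] at hlt
      obtain ⟨x, y, z, hxy, hxz, hyz⟩ := Fintype.two_lt_card_iff.1 hlt
      have two : ∀ u : (powMonoidHom 2 : A →* A).ker, ((u : A) : G) * ((u : A) : G) = 1 := fun u => by
        have h := congrArg (fun a : A => ((a : (S : Subgroup G)) : G)) (MonoidHom.mem_ker.1 u.2)
        simpa [powMonoidHom_apply, pow_two] using h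
      obtain ⟨a, b, ha, hb, hab⟩ : ∃ a b : (powMonoidHom 2 : A →* A).ker, a ≠ 1 ∧ b ≠ 1 ∧ a ≠ b := by
        by_cases hx : x = 1
        · exact ⟨y, z, hx ▸ hxy.symm, hx ▸ hxz.symm, hyz⟩
        by_cases hy : y = 1
        · exact ⟨x, z, hx, hy ▸ hyz.symm, hxz⟩
        exact ⟨x, y, hx, hy, hxy⟩
      have hinj : ∀ u v : (powMonoidHom 2 : A →* A).ker, ((u : A) : G) = ((v : A) : G) → u = v := fun u v h =>
        Subtype.ext (Subtype.ext (Subtype.ext h))
      have hcm : ((a : A) : G) * ((b : A) : G) = ((b : A) : G) * ((a : A) : G) :=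
        congrArg (fun c : A => ((c : (S : Subgroup G)) : G)) (mul_comm (a : A) (b : A))
      have h4 := card_four (two a) (two b) (fun h => ha (hinj a 1 h)) (fun h => hb (hinj b 1 h))
        (fun h => hab (hinj a b h)) hcm
      haveI := hV _ h4
      obtain ⟨g, hg⟩ := IsCyclic.exists_ofOrder_eq_natCard
        (α := ↥(zpowers ((a : A) : G) ⊔ zpowers ((b : A) : G)))
      rw [h4] at hg
      have hsq : g * g = 1 := by
        have hle : zpowers ((a : A) : G) ⊔ zpowers ((b : A) : G) ≤
            Subgroup.closure ({((a : A) : G), ((b : A) : G)} : Set G) :=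
          sup_le (zpowers_le.2 (subset_closure (by simp))) (zpowers_le.2 (subset_closure (by simp)))
        refine Subtype.ext ?_
        show (g : G) * g = 1
        refine Subgroup.closure_induction (p := fun u _ => u * u = 1) ?_ (one_mul 1) ?_ ?_ (hle g.2)
        · rintro u (rfl | rfl)
          · exact two a
          · exact two b
        · intro u v hu hv h1 h2
          have huv : u * v = v * u := by
            have hc : IsMulCommutative (Subgroup.closure ({((a : A) : G), ((b : A) : G)} : Set G)) :=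
              Subgroup.isMulCommutative_closure (by
                intro p hp q hq
                simp only [Set.mem_insert_iff, Set.mem_singleton_iff] at hp hq
                rcases hp with rfl | rfl <;> rcases hq with rfl | rfl <;>
                  first | rfl | exact hcm | exact hcm.symm)
            exact congrArg Subtype.val (hc.is_comm.comm ⟨u, hu⟩ ⟨v, hv⟩)
          calc u * v * (u * v) = u * (v * u) * v := by group
            _ = (u * u) * (v * v) := by rw [← huv]; group
            _ = 1 := by rw [h1, h2, one_mul]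
        · intro u _ h1
          rw [← mul_inv_rev, h1, inv_one]
      have := orderOf_dvd_of_pow_eq_one (show g ^ 2 = 1 by rw [pow_two, hsq])
      rw [hg] at this
      omega
    rcases FpfStruct.cyclic_or_quaternion S.2 hab with h | ⟨-, n, ⟨f⟩⟩
    · exact Or.inl h
    rcases n with _ | _ | n
    · exact Or.inl (f.isCyclic.2 QuaternionGroup.quaternionGroup_one_isCyclic)
    · exact Or.inr ⟨f⟩
    exfalso
    set m := 2 ^ (n + 2) with hm
    haveI : NeZero m := ⟨by positivity⟩
    set ψ : QuaternionGroup m →* G := (S : Subgroup G).subtype.comp f.symm.toMonoidHom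
    have hψ : Function.Injective ψ := (S : Subgroup G).subtype_injective.comp f.symm.injective
    have ha : orderOf (QuaternionGroup.a (1 : ZMod (2 * m))) = 2 * m := QuaternionGroup.orderOf_a_one
    have h8 : (8 : ℕ) ∣ 2 * m := ⟨2 ^ n, by rw [hm, pow_succ, pow_succ]; ring⟩
    set C := zpowers ((QuaternionGroup.a (1 : ZMod (2 * m))) ^ (2 * m / 8))
    have hCc : Nat.card C = 8 := by
      have := orderOf_pow_orderOf_div (x := QuaternionGroup.a (1 : ZMod (2 * m))) (n := 8)
        (orderOf_pos _).ne' (ha.symm ▸ h8)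
      rw [ha] at this
      rw [Nat.card_zpowers, this]
    have hx4 : Nat.card (zpowers (QuaternionGroup.xa (0 : ZMod (2 * m)))) = 2 ^ 2 := by
      rw [Nat.card_zpowers, QuaternionGroup.orderOf_xa]; norm_num
    obtain ⟨Q, hQc, hQle⟩ := Sylow.exists_subgroup_card_pow_prime_le 2 (m := 3) (n := 2) (by
        rw [Nat.card_eq_fintype_card, QuaternionGroup.card, hm]
        exact ⟨2 * 2 ^ n, by rw [pow_succ, pow_succ]; ring⟩) _ hx4 (by norm_num)
    obtain ⟨i⟩ := hC.iso (H := C.map ψ) (K := Q.map ψ) (by
      rw [card_map_of_injective hψ, card_map_of_injective hψ, hCc, hQc]; norm_num)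
    have hQcy : IsCyclic Q :=
      ((C.equivMapOfInjective ψ hψ).trans (i.trans (Q.equivMapOfInjective ψ hψ).symm)).isCyclic.1 inferInstance
    obtain ⟨⟨y, hyQ⟩, hy⟩ := IsCyclic.exists_ofOrder_eq_natCard (α := Q)
    rw [orderOf_mk, hQc] at hy
    obtain ⟨k, hk⟩ : QuaternionGroup.xa (0 : ZMod (2 * m)) ∈ zpowers (QuaternionGroup.a (1 : ZMod (2 * m))) := by
      have hxQ : QuaternionGroup.xa (0 : ZMod (2 * m)) ∈ Q := hQle (mem_zpowers _)
      have hyz : zpowers y = Q := eq_of_le_of_card_ge (zpowers_le.2 hyQ) (by rw [Nat.card_zpowers, hy, hQc])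
      rw [← hyz] at hxQ
      refine zpowers_le.2 ?_ hxQ
      rcases y with j | j
      · refine ⟨(j.val : ℤ), ?_⟩
        show QuaternionGroup.a (1 : ZMod (2 * m)) ^ ((j.val : ℕ) : ℤ) = _
        rw [zpow_natCast, QuaternionGroup.a_one_pow, ZMod.natCast_zmod_val]
      · rw [QuaternionGroup.orderOf_xa] at hy; norm_num at hy
    obtain ⟨k', hk'⟩ : ∃ k' : ℕ, QuaternionGroup.a (1 : ZMod (2 * m)) ^ k' = QuaternionGroup.xa 0 :=
      (isOfFinOrder_of_finite _).mem_zpowers_iff_mem_range_orderOf.1 ⟨k, hk⟩ |> Finset.mem_image.1 |>.imp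
        fun _ h => h.2
    rw [QuaternionGroup.a_one_pow] at hk'
    cases hk'

theorem invol_unique (q : QuaternionGroup 2) (h : q * q = 1) : q = 1 ∨ q = QuaternionGroup.a 2 := by
  revert q; decide

theorem sq_quaternion : ∀ q : QuaternionGroup 2, q * q = 1 ∨ q * q = QuaternionGroup.a 2 := by decide

/-- The alternating group of degree four has no subgroup of index two. -/
theorem alt_four_index (M : Subgroup (alternatingGroup (Fin 4))) : M.index ≠ 2 := by
  classical
  intro hM
  haveI := Fintype.ofFinite M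
  have h9 : (Finset.univ.filter fun g : alternatingGroup (Fin 4) => g * g * g = 1).card = 9 := by decide
  have hsub : (Finset.univ.filter fun g : alternatingGroup (Fin 4) => g * g * g = 1) ⊆
      Finset.univ.filter fun g => g ∈ M := by
    intro g hg
    simp only [Finset.mem_filter, Finset.mem_univ, true_and] at hg ⊢
    rw [show g = (g * g) * (g * g) by rw [← mul_assoc, hg, one_mul]]
    exact Subgroup.mul_self_mem_of_index_two hM _
  have h := Finset.card_le_card hsub
  have hc := Subgroup.card_mul_index M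
  rw [hM, Nat.card_eq_fintype_card (α := alternatingGroup (Fin 4)),
    show Fintype.card (alternatingGroup (Fin 4)) = 12 from by decide] at hc
  rw [h9, ← Fintype.card_subtype, ← Nat.card_eq_fintype_card] at h
  change 9 ≤ Nat.card M at h
  omega

theorem quaternion_case (hC : EqConj G) (hO : Cfsg.oddCore G = ⊥) (S : Sylow 2 G)
    (f : (S : Subgroup G) ≃* QuaternionGroup 2) :
    Nonempty (G ≃* Matrix.SpecialLinearGroup (Fin 2) (ZMod 3)) ∨
    Nonempty (G ≃* Matrix.SpecialLinearGroup (Fin 2) (ZMod 5)) := by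
  classical
  haveI : Fact (Nat.Prime 2) := ⟨Nat.prime_two⟩
  set Z := center G with hZ
  have hZ2 : Nat.card Z = 2 := S0201.result S 0 f fun N hN ho =>
    le_bot_iff.1 (hO ▸ SEBrick.le_oddCore hN ho)
  have hS8 : Nat.card (S : Subgroup G) = 8 := by
    rw [Nat.card_congr f.toEquiv, Nat.card_eq_fintype_card, QuaternionGroup.card]
  have hZS : Z ≤ (S : Subgroup G) := fun z hz => by
    have h2 : IsPGroup 2 ↥((S : Subgroup G) ⊔ Z) := S.2.to_sup_of_normal_right
      (IsPGroup.of_card (n := 1) (by rw [hZ2, pow_one]))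
    exact (S.3 h2 le_sup_left).le (le_sup_right (a := (S : Subgroup G)) hz)
  obtain ⟨⟨z, hz⟩, hz1⟩ : ∃ z : Z, z ≠ 1 := by
    haveI : Nontrivial Z := by rw [← Finite.one_lt_card_iff_nontrivial, hZ2]; norm_num
    exact exists_ne 1
  have hz1' : z ≠ 1 := fun h => hz1 (Subtype.ext h)
  have hz2 : z * z = 1 := by
    have := congrArg Subtype.val (pow_card_eq_one' (x := (⟨z, hz⟩ : Z)))
    rw [hZ2] at this
    simpa [pow_two] using this
  have hfz : f ⟨z, hZS hz⟩ = QuaternionGroup.a 2 := by
    refine (invol_unique _ ?_).resolve_left fun h => hz1' ?_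
    · rw [← map_mul, show (⟨z, hZS hz⟩ : (S : Subgroup G)) * ⟨z, hZS hz⟩ = 1 from Subtype.ext hz2, map_one]
    · exact congrArg Subtype.val (f.map_eq_one_iff.1 h)
  -- the only involution
  have huniq : ∀ t : G, orderOf t = 2 → t = z := fun t ht => by
    obtain ⟨g, hg⟩ := hC.one_class (orderOf_eq_prime (by rw [pow_two]; exact hz2) hz1') ht
    rw [← hg, mem_center_iff.1 hz g, mul_inv_cancel_right]
  have hev : ∀ H : Subgroup G, 2 ∣ Nat.card H → z ∈ H := fun H h => by
    obtain ⟨⟨t, htH⟩, ht⟩ := exists_prime_orderOf_dvd_card' 2 h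
    rw [orderOf_mk] at ht
    exact huniq t ht ▸ htH
  have hsqZ : ∀ s ∈ (S : Subgroup G), s * s ∈ Z := fun s hs => by
    rcases sq_quaternion (f ⟨s, hs⟩) with h | h
    · have : s * s = 1 := congrArg Subtype.val (f.injective ((map_mul f _ _).trans (h.trans (map_one f).symm)))
      exact this ▸ one_mem _
    · have : s * s = z := congrArg Subtype.val (f.injective ((map_mul f _ _).trans (h.trans hfz.symm)))
      exact this ▸ hz
  set π := QuotientGroup.mk' Z
  have hπs : Function.Surjective π := QuotientGroup.mk'_surjective Z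
  let S' : Sylow 2 (G ⧸ Z) := S.mapSurjective hπs
  have hS'4 : Nat.card (S' : Subgroup (G ⧸ Z)) = 4 := by
    have h := Subgroup.card_mul_index (Z.subgroupOf (S : Subgroup G))
    rw [Nat.card_congr (subgroupOfEquivOfLe hZS).toEquiv, hZ2, hS8] at h
    have e1 : Nat.card ((S : Subgroup G).map π) = (Z.subgroupOf (S : Subgroup G)).index := by
      have h2 := Subgroup.index_ker (π.comp (S : Subgroup G).subtype)
      rw [MonoidHom.range_comp, range_subtype] at h2
      rw [← h2, ← MonoidHom.comap_ker, QuotientGroup.ker_mk']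
      rfl
    show Nat.card ((S : Subgroup G).map π) = 4
    omega
  have hsq' : SqTwo (G ⧸ Z) := fun g hg => by
    obtain ⟨k, hk⟩ := hg
    obtain ⟨R, hR⟩ := (IsPGroup.of_card (p := 2) (n := k) (by rw [Nat.card_zpowers, hk]) :
      IsPGroup 2 (zpowers g)).exists_le_sylow
    obtain ⟨c, hc⟩ := MulAction.exists_smul_eq (G ⧸ Z) S' R
    have hgR := hR (mem_zpowers g)
    rw [← hc, Sylow.coe_subgroup_smul] at hgR
    obtain ⟨y, hy, rfl⟩ := hgR
    obtain ⟨s, hs, rfl⟩ := (hy : y ∈ (S : Subgroup G).map π)
    have h1 : π s * π s = 1 := by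
      rw [← map_mul]; exact (QuotientGroup.eq_one_iff _).2 (hsqZ s hs)
    simp only [MulDistribMulAction.toMonoidEnd_apply, MulDistribMulAction.toMonoidHom_apply, MulAut.smul_def]
    rw [← map_mul, h1, map_one]
  have hO' : Cfsg.oddCore (G ⧸ Z) = ⊥ := by
    set M := (Cfsg.oddCore (G ⧸ Z)).comap π with hM
    have hModd : Nat.card M = 2 * Nat.card (Cfsg.oddCore (G ⧸ Z)) := by
      rw [← hZ2]
      exact QuotientGroup.card_preimage_mk Z (Cfsg.oddCore (G ⧸ Z) : Set (G ⧸ Z))
    have hZM : Z ≤ M := fun x hx => by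
      show π x ∈ Cfsg.oddCore (G ⧸ Z)
      rw [show π x = 1 from (QuotientGroup.eq_one_iff x).2 hx]
      exact one_mem _
    haveI : (Cfsg.oddCore (G ⧸ Z)).Normal := Cfsg.pPrimeCore_normal 2 (G ⧸ Z)
    have hodd := SEBrick.oddCore_odd (G := G ⧸ Z)
    have hidx : (Z.subgroupOf M).index = Nat.card (Cfsg.oddCore (G ⧸ Z)) := by
      have h := Subgroup.card_mul_index (Z.subgroupOf M)
      rw [Nat.card_congr (subgroupOfEquivOfLe hZM).toEquiv, hZ2, hModd] at h
      omega
    obtain ⟨K, hK⟩ := exists_right_complement'_of_coprime (N := Z.subgroupOf M) (by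
      rw [Nat.card_congr (subgroupOfEquivOfLe hZM).toEquiv, hZ2, hidx]
      exact Nat.coprime_two_left.2 hodd)
    have hKc : Nat.card K = Nat.card (Cfsg.oddCore (G ⧸ Z)) := by
      have h := hK.card_mul
      rw [Nat.card_congr (subgroupOfEquivOfLe hZM).toEquiv, hZ2, hModd] at h
      omega
    have hin : ∀ x : M, Odd (orderOf x) → x ∈ K := fun x hx => by
      obtain ⟨⟨u, k⟩, huk⟩ := hK.2 x
      have hu : Commute (u : M) (k : M) :=
        Subtype.ext ((mem_center_iff.1 (Subgroup.mem_subgroupOf.1 u.2) _).symm)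
      have h1 : (u : M) ^ 2 = 1 := by
        have h := congrArg Subtype.val (pow_card_eq_one' (x := u))
        have hc2 : Nat.card ↥(Z.subgroupOf M) = 2 :=
          (Nat.card_congr (subgroupOfEquivOfLe hZM).toEquiv).trans hZ2
        have h2 := pow_card_eq_one' (x := u)
        erw [hc2] at h2
        exact congrArg Subtype.val h2
      have h2 : x ^ 2 ∈ K := by
        rw [show x = (u : M) * k from huk.symm, hu.mul_pow, h1, one_mul]
        exact pow_mem k.2 2
      obtain ⟨r, hr⟩ := hx
      have : x = (x ^ 2) ^ (r + 1) := by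
        rw [← pow_mul, show 2 * (r + 1) = orderOf x + 1 by omega, pow_succ, pow_orderOf_eq_one, one_mul]
      rw [this]
      exact pow_mem h2 _
    have hKn : (K.map M.subtype).Normal := by
      refine ⟨?_⟩
      rintro _ ⟨x, hx, rfl⟩ g
      have hgM : g * (x : G) * g⁻¹ ∈ M := Subgroup.Normal.conj_mem inferInstance _ x.2 g
      refine ⟨⟨_, hgM⟩, hin _ ?_, rfl⟩
      rw [← orderOf_coe]
      show Odd (orderOf (MulAut.conj g (x : G)))
      rw [MulEquiv.orderOf_eq, orderOf_coe]
      have hd := orderOf_dvd_natCard (⟨x, hx⟩ : K)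
      rw [orderOf_mk] at hd
      exact Odd.of_dvd_nat (hKc ▸ hodd) hd
    have hKb : K.map M.subtype = ⊥ := le_bot_iff.1 (hO ▸ SEBrick.le_oddCore hKn (by
      rw [card_map_of_injective M.subtype_injective, hKc]; exact hodd))
    apply Subgroup.eq_bot_of_card_eq
    rw [← hKc, ← card_map_of_injective M.subtype_injective, hKb, card_bot]
  have hev' : 2 ∣ Nat.card G := (hZ2 ▸ Subgroup.card_subgroup_dvd_card Z)
  have hG : Nat.card G = 2 * Nat.card (G ⧸ Z) := by
    rw [← Subgroup.card_mul_index Z, hZ2, Subgroup.index_eq_card]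
  rcases elementary (hC.quot Z) hO' hsq' S' le_rfl hS'4 with
    (⟨h, -⟩ | ⟨h, -⟩ | ⟨h, -⟩ | ⟨-, ⟨i⟩⟩) | (⟨h, -⟩ | ⟨h, -⟩ | ⟨-, ⟨i⟩⟩)
  all_goals try omega
  · refine Or.inl ?_
    set σ := i.toMonoidHom.comp π
    have hσ : Function.Surjective σ := i.surjective.comp hπs
    have hA4 : Nat.card (alternatingGroup (Fin 4)) = 12 := by rw [Nat.card_eq_fintype_card]; decide
    refine GW.solvable_case S (m := 1) le_rfl f hO (fun M hM => ?_) ?_
    · have hd := Subgroup.index_map_dvd M hσ
      rw [hM] at hd
      rcases (Nat.dvd_prime Nat.prime_two).1 hd with h1 | h2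
      · rw [Subgroup.index_eq_one] at h1
        have hMev : 2 ∣ Nat.card M := by
          have h := Subgroup.card_mul_index M
          rw [hM, hG, Nat.card_congr i.toEquiv, hA4] at h
          omega
        have hzM := hev M hMev
        have htop : M = ⊤ := by
          refine eq_top_iff.2 fun g _ => ?_
          obtain ⟨x, hx, hxg⟩ := (h1.symm ▸ mem_top (σ g) : σ g ∈ M.map σ)
          have hker : x⁻¹ * g ∈ Z := by
            have : π x = π g := i.injective hxg
            exact QuotientGroup.eq.1 this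
          have hzc : x⁻¹ * g = 1 ∨ x⁻¹ * g = z := by
            rcases eq_or_ne (x⁻¹ * g) 1 with h | h
            · exact Or.inl h
            refine Or.inr (huniq _ (orderOf_eq_prime ?_ h))
            have := congrArg Subtype.val (pow_card_eq_one' (x := (⟨_, hker⟩ : Z)))
            rw [hZ2] at this
            simpa using this
          have : x⁻¹ * g ∈ M := by
            rcases hzc with h | h <;> rw [h]
            · exact one_mem _
            · exact hzM
          simpa using mul_mem hx this
        rw [htop, index_top] at hM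
        omega
      · exact alt_four_index _ h2
    · haveI : Group.IsSolvable Z :=
        Group.isSolvable_of_comm fun a b => Subtype.ext (mem_center_iff.1 b.2 a)
      haveI : Group.IsSolvable (G ⧸ Z) := by
        haveI : Group.IsSolvable (alternatingGroup (Fin 4)) :=
          Char.isSolvable_of_card_pq 2 3 Nat.prime_two Nat.prime_three _ _ rfl ⟨2, 1, by rw [hA4]; norm_num⟩
        exact Group.isSolvable_of_surjective (f := i.symm.toMonoidHom) i.symm.surjective
      exact solvable_of_ker_le_range Z.subtype π (by rw [QuotientGroup.ker_mk', range_subtype])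
  · refine Or.inr ?_
    haveI : Fact (Nat.Prime 5) := ⟨by norm_num⟩
    set σ := i.toMonoidHom.comp π
    have hσ : Function.Surjective σ := i.surjective.comp hπs
    have hmap : (commutator G).map σ = ⊤ := by
      rw [_root_.commutator_def, map_commutator, map_top_of_surjective σ hσ]
      exact commutator_alternatingGroup_eq_top (by simp)
    have hz' : z ∈ commutator G := hev _ (by
      refine dvd_trans ?_ (Subgroup.card_map_dvd (commutator G) σ)
      rw [hmap, card_top, Nat.card_eq_fintype_card]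
      decide)
    have hp : commutator G = ⊤ := by
      refine eq_top_iff.2 fun g _ => ?_
      obtain ⟨x, hx, hxg⟩ := (hmap.symm ▸ mem_top (σ g) : σ g ∈ (commutator G).map σ)
      have hker : x⁻¹ * g ∈ Z := QuotientGroup.eq.1 (i.injective hxg : π x = π g)
      have : x⁻¹ * g ∈ commutator G := by
        rcases eq_or_ne (x⁻¹ * g) 1 with h | h
        · rw [h]; exact one_mem _
        · have h2 : (x⁻¹ * g) ^ 2 = 1 := by
            have := congrArg Subtype.val (pow_card_eq_one' (x := (⟨_, hker⟩ : Z)))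
            rw [hZ2] at this
            simpa using this
          rw [huniq _ (orderOf_eq_prime h2 h)]
          exact hz'
      simpa using mul_mem hx this
    haveI : IsSimpleGroup (Matrix.ProjectiveSpecialLinearGroup (Fin 2) (ZMod 5)) :=
      Matrix.ProjectiveSpecialLinearGroup.rank_two_simple (by rw [Nat.card_zmod]; norm_num)
    obtain ⟨b⟩ := S0494.result (G := Matrix.ProjectiveSpecialLinearGroup (Fin 2) (ZMod 5)) (by
      have h := Dickson.gcd_mul_card_psl (K := ZMod 5)
      rw [Nat.card_zmod] at h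
      rw [show Nat.gcd 2 (5 - 1) = 2 from rfl] at h
      norm_num at h
      rw [Nat.card_eq_fintype_card]; omega)
    exact AbelianTwo.sl_five_of_center hp (i.trans b.symm) fun h => hz1' (by
      rw [← mem_bot, ← h]; exact hz)

/-- The classification for trivial odd core. -/
theorem main (hC : EqConj G) (hO : Cfsg.oddCore G = ⊥) : FullList G := by
  classical
  haveI : Fact (Nat.Prime 2) := ⟨Nat.prime_two⟩
  obtain ⟨S⟩ : Nonempty (Sylow 2 G) := inferInstance
  have hcyc : IsCyclic (S : Subgroup G) → FullList G := fun hS => by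
    refine Or.inl ?_
    suffices htop : (S : Subgroup G) = ⊤ by
      haveI := hS
      let eS : ↥(S : Subgroup G) ≃* G := (MulEquiv.subgroupCongr htop).trans Subgroup.topEquiv
      exact ⟨eS.isCyclic.1 hS, S.2.of_equiv eS⟩
    by_cases hev : 2 ∣ Nat.card G
    · have hmin : (Nat.card G).minFac = 2 := (Nat.minFac_eq_two_iff _).2 hev
      have hle := IsCyclic.normalizer_le_centralizer hmin hS
      have hK := MonoidHom.ker_transferSylow_isComplement' S hle
      have hker : (MonoidHom.transferSylow S hle).ker = ⊥ := le_bot_iff.1 (hO ▸ SEBrick.le_oddCore inferInstance (by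
        rw [Nat.odd_iff]
        have := MonoidHom.not_dvd_card_ker_transferSylow S hle
        omega))
      rw [hker] at hK
      exact isComplement'_bot_left.1 hK
    · have h1 : (⊤ : Subgroup G) ≤ Cfsg.oddCore G := SEBrick.le_oddCore inferInstance (by
        rw [card_top, Nat.odd_iff]; omega)
      rw [hO, top_le_iff] at h1
      haveI : Subsingleton (Subgroup G) := subsingleton_of_bot_eq_top h1
      exact Subsingleton.elim _ _
  rcases sylow_shape hC S with hsq | hS | ⟨⟨f⟩⟩
  · obtain ⟨e, he⟩ := S.2.exists_card_eq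
    rcases lt_or_ge e 2 with h | h
    · refine hcyc (isCyclic_of_card_dvd_prime (p := 2) ?_)
      rw [he]
      exact (pow_dvd_pow 2 (by omega : e ≤ 1)).trans (by rw [pow_one])
    rcases elementary hC hO hsq S h he with
      (⟨-, i⟩ | ⟨-, i⟩ | ⟨-, i⟩ | ⟨-, i⟩) | (⟨-, i⟩ | ⟨-, i⟩ | ⟨-, i⟩)
    · exact Or.inr (Or.inl i)
    · exact Or.inr (Or.inr (Or.inl i))
    · exact Or.inr (Or.inr (Or.inr (Or.inl i)))
    · exact Or.inr (Or.inr (Or.inr (Or.inr (Or.inr (Or.inr (Or.inl i))))))
    · exact Or.inr (Or.inr (Or.inr (Or.inr (Or.inl i))))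
    · exact Or.inr (Or.inr (Or.inr (Or.inr (Or.inr (Or.inl i)))))
    · exact Or.inr (Or.inr (Or.inr (Or.inr (Or.inr (Or.inr (Or.inr (Or.inl i)))))))
  · exact hcyc hS
  · rcases quaternion_case hC hO S f with i | i
    · exact Or.inr (Or.inr (Or.inr (Or.inr (Or.inr (Or.inr (Or.inr (Or.inr (Or.inl i))))))))
    · exact Or.inr (Or.inr (Or.inr (Or.inr (Or.inr (Or.inr (Or.inr (Or.inr (Or.inr i))))))))

end Cfsg.Agent.EqualOrder
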