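import Cfsg.Agent.Lib.EqualOrder.Local
import Cfsg.Agent.Lib.Solvable.Fitting
import Cfsg.Agent.Lib.FiniteGroup.FittingPow
import Cfsg.Agent.Lib.Classical.ProjLine
import Mathlib.GroupTheory.SchurZassenhaus

/-!
The soluble groups with trivial odd core and elementary abelian Sylow 2-subgroups in which subgroups of equal order
are conjugate: `A₄`, `AGL₁(8)`, `AΓL₁(8)`, `AΓL₁(32)`.
-/

set_option autoImplicit false
set_option linter.style.haveILetI false

namespace Cfsg.Agent.EqualOrder

open Subgroup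

variable {G : Type*} [Group G] [Finite G]

/-- The soluble conclusions, with the 2-rank. -/
def SolvableList (G : Type*) [Group G] (e : ℕ) : Prop :=
  (e = 3 ∧ Nonempty (G ≃* Cfsg.affineGroup (GaloisField 2 3))) ∨
    (e = 3 ∧ Nonempty (G ≃* Cfsg.semiaffineGroup (GaloisField 2 3))) ∨
    (e = 5 ∧ Nonempty (G ≃* Cfsg.semiaffineGroup (GaloisField 2 5))) ∨
    (e = 2 ∧ Nonempty (G ≃* alternatingGroup (Fin 4)))

theorem equiv_of_injective {K : Type*} [Group K] [Finite K] {L : Subgroup K} (f : G →* L)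
    (hf : Function.Injective f) (hc : Nat.card L ≤ Nat.card G) : Nonempty (G ≃* L) :=
  ⟨MulEquiv.ofBijective f (hf.bijective_of_nat_card_le hc)⟩

/-- The soluble case, from the fusion of the subgroups of equal order of a Sylow 2-subgroup. -/
theorem solvable_case_of (hO : Cfsg.oddCore G = ⊥) (hsq : SqTwo G) (hsol : Group.IsSolvable G)
    (S : Sylow 2 G) (hfus : ∀ A B : Subgroup G, A ≤ S → B ≤ S → Nat.card A = Nat.card B →
      ∃ g : G, B = A.map (MulAut.conj g).toMonoidHom)
    {e : ℕ} (he : 2 ≤ e) (hcard : Nat.card (S : Subgroup G) = 2 ^ e) : SolvableList G e := by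
  classical
  haveI : Fact (Nat.Prime 2) := ⟨Nat.prime_two⟩
  haveI := hsol
  have hcm := comm_of_sq (sylow_sq hsq S)
  -- the Sylow subgroup is normal and self-centralising
  have hcc := FittingCores.centralizer_pCore_le (G := G) (p := 2) Nat.prime_two hO
  have hQn : (Cfsg.pCore 2 G).Normal := Cfsg.pCore_normal 2 G
  have hQS : Cfsg.pCore 2 G ≤ S := by
    obtain ⟨R, hR⟩ := (FiniteGroup.pCore_isPGroup (G := G) 2).exists_le_sylow
    obtain ⟨g, hg⟩ := MulAction.exists_smul_eq G R S
    intro x hx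
    rw [← hg, Sylow.coe_subgroup_smul]
    exact ⟨g⁻¹ * x * g, hR (by simpa using hQn.conj_mem x hx g⁻¹), by
      rw [MulDistribMulAction.toMonoidEnd_apply, MulDistribMulAction.toMonoidHom_apply, MulAut.smul_def,
        MulAut.conj_apply]
      group⟩
  have hSQ : Cfsg.pCore 2 G = S := le_antisymm hQS fun s hs =>
    hcc (mem_centralizer_iff.2 fun q hq => hcm q (hQS hq) s hs)
  rw [hSQ] at hcc hQn
  haveI := hQn
  have hnt : normalizer ((S : Subgroup G) : Set G) = ⊤ := Subgroup.normalizer_eq_top (H := (S : Subgroup G))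
  let K := GaloisField 2 e
  haveI : Fintype K := Fintype.ofFinite K
  have hK : Fintype.card K = 2 ^ e := by
    rw [← Nat.card_eq_fintype_card, GaloisField.card 2 e (by omega)]
  obtain ⟨⟨E, hadd, hsemi⟩, hcases⟩ := dvd_card_automiser_of hsq S hfus he hcard K hK
  -- the order
  have hord : Nat.card G = 2 ^ e * Nat.card (automiser S) := by
    have hker : (normalizerMonoidHom (S : Subgroup G)).ker =
        (S : Subgroup G).subgroupOf (normalizer ((S : Subgroup G) : Set G)) := by
      ext n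
      rw [MonoidHom.mem_ker, Subgroup.mem_subgroupOf]
      constructor
      · intro h
        refine hcc (mem_centralizer_iff.2 fun s hs => ?_)
        have h1 : (n : G) * s * (n : G)⁻¹ = s :=
          congrArg Subtype.val (DFunLike.congr_fun h (⟨s, hs⟩ : ↥(S : Subgroup G)))
        exact (mul_inv_eq_iff_eq_mul.1 h1).symm
      · intro hn
        refine MulEquiv.ext fun s => Subtype.ext ?_
        show (n : G) * s * (n : G)⁻¹ = s
        rw [hcm _ hn _ s.2, mul_inv_cancel_right]
    have h := Subgroup.index_ker (normalizerMonoidHom (S : Subgroup G))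
    rw [hker] at h
    change (S : Subgroup G).relIndex _ = _ at h
    have hrel : (S : Subgroup G).relIndex (normalizer ((S : Subgroup G) : Set G)) = (S : Subgroup G).index := by
      rw [hnt, relIndex_top_right]
    rw [hrel] at h
    rw [automiser, ← h, ← hcard, Subgroup.card_mul_index]
  -- the action on the cosets of a complement
  obtain ⟨Kc, hKc⟩ := exists_right_complement'_of_coprime (N := (S : Subgroup G)) (by
    rw [hcard]
    refine Nat.Coprime.pow_left e ((Nat.Prime.coprime_iff_not_dvd Nat.prime_two).2 S.not_dvd_index))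
  have hdis : Disjoint (S : Subgroup G) Kc := hKc.disjoint
  let θ : ↥(S : Subgroup G) ≃ G ⧸ Kc := Equiv.ofBijective (fun s => ((s : G) : G ⧸ Kc)) ⟨fun a b h => by
      have h1 : (a : G)⁻¹ * b ∈ Kc := QuotientGroup.eq.1 h
      exact Subtype.ext (inv_mul_eq_one.1 (Subgroup.disjoint_def.1 hdis (mul_mem (inv_mem a.2) b.2) h1)),
    fun q => by
      obtain ⟨g, rfl⟩ := QuotientGroup.mk_surjective q
      obtain ⟨⟨s, k⟩, hsk⟩ := hKc.2 g
      refine ⟨s, QuotientGroup.eq.2 ?_⟩
      rw [show (g : G) = (s : G) * k from hsk.symm, inv_mul_cancel_left]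
      exact k.2⟩
  let ι : G →* Equiv.Perm K :=
    (θ.symm.trans E).permCongrHom.toMonoidHom.comp (MulAction.toPermHom G (G ⧸ Kc))
  have hιv : ∀ g (x : ↥(S : Subgroup G)) (y : ↥(S : Subgroup G)), (g * (x : G))⁻¹ * y ∈ Kc → ι g (E x) = E y := by
    intro g x y h
    show E (θ.symm (g • θ (E.symm (E x)))) = E y
    rw [E.symm_apply_apply]
    refine congrArg E (θ.symm_apply_eq.2 ?_)
    exact QuotientGroup.eq.2 h
  have hmem : ∀ g, ι g ∈ Cfsg.semiaffineGroup K := fun g => by
    obtain ⟨⟨s, k⟩, hsk⟩ := hKc.2 g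
    set h := normalizerMonoidHom (S : Subgroup G) ⟨(k : G), hnt ▸ mem_top _⟩
    obtain ⟨a, σ, hσ⟩ := hsemi h ⟨_, rfl⟩
    refine ⟨a, E s, σ, fun z => ?_⟩
    obtain ⟨x, rfl⟩ := E.surjective z
    rw [← hσ, add_comm, ← hadd]
    refine hιv g x _ ?_
    show (g * (x : G))⁻¹ * ((s : G) * ((k : G) * x * (k : G)⁻¹)) ∈ Kc
    rw [← show (s : G) * k = g from hsk,
      show ((s : G) * k * x)⁻¹ * ((s : G) * ((k : G) * x * (k : G)⁻¹)) = (k : G)⁻¹ by group]
    exact inv_mem k.2
  have hιi : Function.Injective ι := by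
    refine (injective_iff_map_eq_one ι).2 fun g hg => ?_
    have hx : ∀ x : ↥(S : Subgroup G), (x : G)⁻¹ * g * x ∈ Kc := fun x => by
      obtain ⟨y, hy⟩ := θ.surjective ((g * (x : G) : G) : G ⧸ Kc)
      have h1 := hιv g x y (QuotientGroup.eq.1 hy.symm)
      rw [hg, Equiv.Perm.one_apply] at h1
      obtain rfl := E.injective h1
      have h2 : (x : G)⁻¹ * (g * x) ∈ Kc := QuotientGroup.eq.1 hy
      rwa [← mul_assoc] at h2
    have hgK : g ∈ Kc := by simpa using hx 1
    have hgS : g ∈ (S : Subgroup G) := hcc (mem_centralizer_iff.2 fun s hs => by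
      have h2 : s⁻¹ * (g * s * g⁻¹) ∈ Kc := by
        rw [show s⁻¹ * (g * s * g⁻¹) = s⁻¹ * g * s * g⁻¹ by group]
        exact mul_mem (hx ⟨s, hs⟩) (inv_mem hgK)
      have h3 := Subgroup.disjoint_def.1 hdis (mul_mem (inv_mem hs) (hQn.conj_mem s hs g)) h2
      rw [inv_mul_eq_one, eq_mul_inv_iff_mul_eq] at h3
      exact h3)
    exact Subgroup.disjoint_def.1 hdis hgS hgK
  let κ : G →* Cfsg.semiaffineGroup K := ι.codRestrict _ hmem
  have hκ : Function.Injective κ := fun a b h => hιi (congrArg Subtype.val h)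
  haveI : CharP K 2 := by
    have : CharP (GaloisField 2 e) 2 := inferInstance
    exact this
  have hKn : Nat.card K = 2 ^ e := by rw [Nat.card_eq_fintype_card, hK]
  have hAut : Nat.card (K ≃+* K) = e :=
    Nat.pow_right_injective le_rfl ((RankOne.FieldMaps.card_aut (F := K)).symm.trans hK)
  rcases hcases with ⟨rfl, h3⟩ | ⟨rfl, h7 | h21⟩ | ⟨rfl, h155⟩
  · refine Or.inr (Or.inr (Or.inr ⟨rfl, ProjLine.equiv_alternating hKn ι hιi ?_⟩))
    rw [hord, h3]; decide
  · refine Or.inl ?_
    have hcs : Nat.card G = 56 := by rw [hord, h7]; norm_num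
    have hfp : ∀ g, fieldPart (κ g) = 1 := fun g => by
      refine orderOf_eq_one_iff.1 (Nat.eq_one_of_dvd_coprimes (a := 56) (b := 3) (by norm_num) ?_ ?_)
      · exact ((orderOf_map_dvd (fieldPart.comp κ) g).trans (orderOf_dvd_natCard g)).trans (dvd_of_eq hcs)
      · exact (orderOf_dvd_natCard (fieldPart (κ g))).trans (dvd_of_eq hAut)
    refine ⟨rfl, equiv_of_injective (ι.codRestrict _ fun g => mem_affine_of_fieldPart (hfp g))
      (fun a b h => hιi (congrArg Subtype.val h)) ?_⟩
    rw [card_affine, Nat.card_units, hKn, hcs]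
    norm_num
  · refine Or.inr (Or.inl ⟨rfl, equiv_of_injective κ hκ ?_⟩)
    rw [card_semiaffine, Nat.card_units, hKn, hAut, hord, h21]
    norm_num
  · refine Or.inr (Or.inr (Or.inl ⟨rfl, equiv_of_injective κ hκ ?_⟩))
    rw [card_semiaffine, Nat.card_units, hKn, hAut, hord, h155]
    norm_num

theorem solvable_case (hC : EqConj G) (hO : Cfsg.oddCore G = ⊥) (hsq : SqTwo G) (hsol : Group.IsSolvable G)
    (S : Sylow 2 G) {e : ℕ} (he : 2 ≤ e) (hcard : Nat.card (S : Subgroup G) = 2 ^ e) : SolvableList G e :=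
  solvable_case_of hO hsq hsol S (fun A B _ _ h => hC A B h) he hcard

end Cfsg.Agent.EqualOrder
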